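import Groth.Agent.Pic13Aux.PnForms
import Groth.Agent.VarietyBC.NegTwist
import Groth.Agent.Inter.Twist
import Groth.Agent.Inter.Chi
import Groth.Agent.Variety2.ProjBasics
import Groth.Agent.SchemeMorphisms.Decomp
import Groth.Agent.PnCoh.ProjFinite

/-!
# Sections of negative twists of modules on `P^N` without associated closed points
-/

set_option autoImplicit false
set_option linter.style.haveILetI false
set_option backward.isDefEq.respectTransparency.types false

universe u

open CategoryTheory CategoryTheory.Limits AlgebraicGeometry TopologicalSpace Opposite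

namespace Groth.Pic13Aux

open Groth.PicAux Groth.PropsBasic.Ample

attribute [local instance] Groth.EulerDeg.secModule

variable {k : Type u} [Field k]

/-- Twisting does not change the associated points. -/
theorem isAssPoint_twist_iff {X : Scheme.{u}} {L : X.Modules} (hL : PicF.IsInvertible L) (F : X.Modules)
    (x : X) : Curv2.IsAssPoint (CohB1.tensorMod F L) x ↔ Curv2.IsAssPoint F x := by
  obtain ⟨e⟩ := Inter.exists_stalk_equiv hL x
  exact (((TensorProduct.rid _ _).symm ≪≫ₗ
    TensorProduct.congr (LinearEquiv.refl _ _) e ≪≫ₗ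
    QCohMod.stalkTensorEquiv F L x).isAssociatedPrime_iff).symm

/-- The associated points of a coherent module on a noetherian scheme are finite in number. -/
theorem finite_isAssPoint {X : Scheme.{u}} [IsNoetherian X] {F : X.Modules} (hF : Coh.IsCoh F) :
    {x : X | Curv2.IsAssPoint F x}.Finite := by
  obtain ⟨S, hSfin, hS⟩ := isCompact_and_isOpen_iff_finite_and_eq_biUnion_affineOpens.mp
    ⟨(isCompact_univ : IsCompact (Set.univ : Set X)), isOpen_univ⟩
  refine (hSfin.biUnion fun U _ => Groth.SchemeMorphisms.finite_ass_inter hF U.2).subset fun x hx => ?_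
  obtain ⟨U, hU, hxU⟩ := Set.mem_iUnion₂.mp (hS.le (Set.mem_univ x))
  exact Set.mem_iUnion₂.mpr ⟨U, hU, Groth.SchemeMorphisms.mem_ass_iff_weak.2
    (Groth.Divisors.isAssPoint_iff_weak.1 hx), hxU⟩

/-- Multiplication by a section generating at all the associated points is injective. -/
theorem tmulSec_eq_zero_iff {X : Scheme.{u}} [IsLocallyNoetherian X] {A L : X.Modules} (hA : Coh.IsCoh A)
    (t : Γ(L, (⊤ : X.Opens))) (h : ∀ x : X, Curv2.IsAssPoint A x → x ∈ gloc t) {s : Γ(A, (⊤ : X.Opens))}
    (hs : (tmulSec s t : Γ(CohB1.tensorMod A L, (⊤ : X.Opens))) = 0) : s = 0 := by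
  have := hA.1
  refine Groth.Divisors.eq_zero_of_germ_weakAss hA.1 s fun x hx hwa => ?_
  have hxt := h x (Groth.Divisors.isAssPoint_iff_weak.2 hwa)
  rw [← A.presheaf.germ_res_apply (homOfLE (le_top : gloc t ≤ ⊤)) x hxt]
  refine VarietyBC.NegTwist.germ_eq_zero_of_tmulSec (gen_gloc t le_rfl) hxt _ ?_
  change (CohB1.tensorMod A L).presheaf.germ _ x _ (tmulSec (res A le_top s) (res L le_top t)) = 0
  rw [← res_tmulSec, hs, res_zero, map_zero]

variable [IsAlgClosed k] {N : ℕ}

theorem finrank_twist_le {F : (CohB1.ProjSpace N k).Modules} (hF : Coh.IsCoh F)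
    (hass : ∀ x : ↥(CohB1.ProjSpace N k), Curv2.IsAssPoint F x → ¬ IsClosed ({x} : Set ↥(CohB1.ProjSpace N k)))
    :
    Module.finrank k (Coh.HH (CohB1.ProjSpace N k) (CohB1.tensorMod F (Twist.twistProjSpace N k (-1))) 0) ≤
      Module.finrank k (Coh.HH (CohB1.ProjSpace N k) F 0) - 1 := by
  let X := CohB1.ProjSpace N k
  let A := CohB1.tensorMod F (Twist.twistProjSpace N k (-1))
  let O1 := Twist.twistProjSpace N k 1
  have : IsLocallyNoetherian X := PnCoh.isLocallyNoetherian_projSpace N k
  have hprop : IsProper (X ↘ Spec (CommRingCat.of k)) :=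
    Groth.Variety2.isProper_projSpace_toSpec N k
  have : IsNoetherian X := Groth.Inter.isNoetherian k
  have hA : Coh.IsCoh A := Variety2.Reg.isCoh_fT F hF (-1)
  obtain ⟨f₀, f₁, hf⟩ := PnForms.exists_pencil (finite_isAssPoint hA)
    (fun x hx => hass x ((isAssPoint_twist_iff (Variety2.Reg.isInvertible_tw (-1)) F x).1 hx))
  let ι : CohB1.tensorMod A O1 ≅ F :=
    (Variety2.Reg.nonempty_twist_twist F (-1) 1 0 (by norm_num)).some ≪≫
      (Variety2.Reg.nonempty_fT_zero F).some
  let Φ : CohB1.polyGrading N k 1 →ₗ[k] Γ(A, (⊤ : X.Opens)) →ₗ[k] Γ(F, (⊤ : X.Opens)) :=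
    LinearMap.mk₂ k (fun f s => ι.hom.app ⊤ (tmulSec s (PnForms.lin f)))
      (fun f g s => by rw [map_add, tmulSec_add_right, map_add])
      (fun c f s => by
        rw [map_smul, EulerDeg.smul_sec, EulerDeg.smul_sec, tmulSec_smul_right, Scheme.Modules.Hom.app_smul])
      (fun f s s' => by rw [tmulSec_add_left, map_add])
      (fun c f s => by
        rw [EulerDeg.smul_sec, EulerDeg.smul_sec, tmulSec_smul_left, Scheme.Modules.Hom.app_smul])
  have hinj : ∀ f : CohB1.polyGrading N k 1, (∀ x, Curv2.IsAssPoint A x → f ∉ PnForms.vanishing x) →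
      Function.Injective (Φ f) := by
    intro f hfv
    refine (injective_iff_map_eq_zero _).2 fun s hs => ?_
    refine tmulSec_eq_zero_iff hA (PnForms.lin f)
      (fun x hx => (PnForms.mem_gloc_lin f x).2 (hfv x hx)) ?_
    have := congrArg (ι.inv.app ⊤) (hs : ι.hom.app ⊤ (tmulSec s (PnForms.lin f)) = 0)
    rw [map_zero] at this
    exact (congr(($(ι.hom_inv_id)).app ⊤ (tmulSec s (PnForms.lin f)))).symm.trans this
  have hφ₁ : Function.Injective (Φ f₁) := hinj f₁ fun x hx => (hf x hx).1
  have : Module.Finite k (Coh.HH X F 0) := EulerDeg.finite_HH k X hF 0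
  have : Module.Finite k (Coh.HH X A 0) := EulerDeg.finite_HH k X hA 0
  have : Module.Finite k Γ(F, (⊤ : X.Opens)) := Module.Finite.equiv (EulerDeg.h0Equiv k F)
  have : Module.Finite k Γ(A, (⊤ : X.Opens)) := Module.Finite.equiv (EulerDeg.h0Equiv k A)
  rw [(EulerDeg.h0Equiv k A).finrank_eq, (EulerDeg.h0Equiv k F).finrank_eq] at *
  have hle := LinearMap.finrank_le_finrank_of_injective hφ₁
  by_contra hlt
  have heq : Module.finrank k Γ(A, (⊤ : X.Opens)) = Module.finrank k Γ(F, (⊤ : X.Opens)) := by omega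
  let e := LinearEquiv.ofBijective (Φ f₁)
    ⟨hφ₁, (LinearMap.injective_iff_surjective_of_finrank_eq_finrank heq).1 hφ₁⟩
  have : Nontrivial Γ(A, (⊤ : X.Opens)) := Module.nontrivial_of_finrank_pos (R := k) (by omega)
  obtain ⟨c, hc⟩ := Module.End.exists_eigenvalue (e.symm.toLinearMap.comp (Φ f₀))
  obtain ⟨v, hv⟩ := hc.exists_hasEigenvector
  refine hv.2 (hinj (f₀ - c • f₁) (fun x hx => (hf x hx).2 c) ?_)
  rw [map_zero, map_sub, map_smul, LinearMap.sub_apply, LinearMap.smul_apply, sub_eq_zero]
  have := congrArg e hv.apply_eq_smul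
  rw [LinearMap.comp_apply, LinearEquiv.coe_coe, LinearEquiv.apply_symm_apply, map_smul] at this
  exact this

end Groth.Pic13Aux
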