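import Groth.Agent.Variety2.DimScheme
import Groth.Agent.EGA43Topo.FlatDVRPoint

/-!
# A curve through a closed point meeting a given open set
-/

set_option autoImplicit false

universe u

open CategoryTheory AlgebraicGeometry TopologicalSpace

namespace Groth.Pic13Aux

variable {k : Type u} [Field k] {X : Scheme.{u}}

/-- A closed point outside an open set, having a generalization in it, lies on a curve meeting it. -/
theorem exists_curve_through (f : X ⟶ Spec (CommRingCat.of k)) [LocallyOfFiniteType f]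
    (O : X.Opens) {x w : X} (hx : IsClosed ({x} : Set X)) (hxO : x ∉ O) (hwO : w ∈ O) (hwx : w ⤳ x) :
    ∃ y ∈ O, y ⤳ x ∧ topologicalKrullDim (closure ({y} : Set X)) = 1 := by
  have : IsLocallyNoetherian X := LocallyOfFiniteType.isLocallyNoetherian f
  let g := X.fromSpecStalk x
  obtain ⟨P, hP⟩ : w ∈ Set.range g := by rw [Scheme.range_fromSpecStalk]; exact hwx
  have hclosed : g (IsLocalRing.closedPoint (X.presheaf.stalk x)) = x := Scheme.fromSpecStalk_closedPoint
  obtain ⟨-, ⟨c, rfl⟩, hPc, hc⟩ := PrimeSpectrum.isTopologicalBasis_basic_opens.exists_subset_of_mem_open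
    (show P ∈ g ⁻¹' (O : Set X) by rw [Set.mem_preimage, hP]; exact hwO)
    (O.isOpen.preimage g.continuous)
  have hcm : c ∈ IsLocalRing.maximalIdeal (X.presheaf.stalk x) := by
    by_contra hcm
    exact hxO (hclosed ▸ hc (show IsLocalRing.closedPoint (X.presheaf.stalk x) ∈
      PrimeSpectrum.basicOpen c from hcm))
  obtain ⟨Q, hQ, hcQ, hdim, -⟩ :=
    Groth.EGA43Topo.FlatDVRPoint.exists_prime_dim_one P.asIdeal hcm hPc
  let q : PrimeSpectrum (X.presheaf.stalk x) := ⟨Q, hQ⟩
  have hyO : g q ∈ O := hc (show q ∈ PrimeSpectrum.basicOpen c from hcQ)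
  have hyx : g q ⤳ x := by
    have := Scheme.range_fromSpecStalk (X := X) (x := x)
    exact (Set.ext_iff.1 this (g q)).1 ⟨q, rfl⟩
  refine ⟨g q, hyO, hyx, ?_⟩
  have hxy : x ≠ g q := fun h => hxO (h ▸ hyO)
  have hcov : x ⋖ g q := by
    refine ⟨Variety2.Dim.lt_iff.2 ⟨hyx, hxy⟩, fun z hxz hzy => ?_⟩
    obtain ⟨hzx, hne⟩ := Variety2.Dim.lt_iff.1 hxz
    obtain ⟨hyz, hne'⟩ := Variety2.Dim.lt_iff.1 hzy
    obtain ⟨r, rfl⟩ : z ∈ Set.range g := by rw [Scheme.range_fromSpecStalk]; exact hzx
    have hqr : Q ≤ r.asIdeal :=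
      (PrimeSpectrum.le_iff_specializes q r).2 (g.isEmbedding.isInducing.specializes_iff.1 hyz)
    rcases eq_or_lt_of_le hqr with h | h
    · exact hne' (congrArg g (PrimeSpectrum.ext h.symm))
    · have hm := Ring.krullDimLE_one_iff_of_isPrime_bot.1 hdim (r.asIdeal.map (Ideal.Quotient.mk Q))
        (fun h0 => not_le_of_gt h ((Ideal.map_eq_bot_iff_le_ker _).1 h0 |>.trans Ideal.mk_ker.le))
        (Ideal.map_isPrime_of_surjective Ideal.Quotient.mk_surjective (by rw [Ideal.mk_ker]; exact hqr))
      have := Ideal.comap_isMaximal_of_surjective (Ideal.Quotient.mk Q) Ideal.Quotient.mk_surjective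
        (K := r.asIdeal.map (Ideal.Quotient.mk Q))
      rw [Ideal.comap_map_of_surjective _ Ideal.Quotient.mk_surjective] at this
      have hr : r.asIdeal = IsLocalRing.maximalIdeal _ := by
        refine le_antisymm (IsLocalRing.le_maximalIdeal r.isPrime.ne_top) ?_
        rw [← IsLocalRing.eq_maximalIdeal this]
        refine sup_le le_rfl ?_
        rw [← RingHom.ker_eq_comap_bot, Ideal.mk_ker]
        exact hqr
      exact hne (hclosed.symm.trans (congrArg g (PrimeSpectrum.ext hr.symm)))
  have h0 : Order.height x = 0 := by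
    rw [Order.height_eq_zero]
    intro z hz
    have : z ∈ closure ({x} : Set X) := (Scheme.le_iff_specializes.1 hz).mem_closure
    rw [hx.closure_eq, Set.mem_singleton_iff] at this
    exact this.ge
  rw [Variety2.Dim.dim_closure_singleton, Variety2.Dim.height_eq_of_covBy f hcov, h0, zero_add]
  rfl

end Groth.Pic13Aux
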