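import Groth.Agent.Inter.NakaiCor
import Groth.Agent.Inter.Semiample
import Groth.Agent.HilbStab.Mult
import Groth.Agent.Pic13Aux.CurveThrough
import Groth.Prelude.Def_Pic13

/-!
# Numerically trivial invertible modules with a section
-/

set_option autoImplicit false
set_option linter.style.haveILetI false

universe u

open CategoryTheory CategoryTheory.Limits AlgebraicGeometry TopologicalSpace

namespace Groth.Pic13Aux

open Groth.Inter Groth.PicAux Groth.HilbStab Groth.PropsBasic.Ample

variable (k : Type u) [Field k] {X : Scheme.{u}} [X.Over (Spec (CommRingCat.of k))]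
  [IsProper (X ↘ Spec (CommRingCat.of k))]

/-- A numerically trivial module has degree zero on every coherent module of dimension at most one. -/
theorem delta_one_of_numEquivZero {L : X.Modules} (hL : PicF.IsInvertible L)
    (hnum : Pic13.IsNumEquivZero k X L) {F : X.Modules} (hF : Coh.IsCoh F)
    (hd : topologicalKrullDim (CohB1.support F) ≤ ((1 : ℕ) : WithBot ℕ∞)) :
    delta k [L] F = 0 := by
  have hN : IsNoetherian X := Inter.isNoetherian k
  refine Inter.additive_eq_zero (fun G => delta k [L] G)
    (fun S hS c₁ _ c₃ => delta_add k (by simpa using hL) hS c₁ c₃)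
    (CohTwo.isClosed_support F hF) (fun y hy => ?_) hF subset_rfl
  have hyd : topologicalKrullDim (closure ({y} : Set X)) ≤ ((1 : ℕ) : WithBot ℕ∞) :=
    (LocCohTransform.topologicalKrullDim_mono hy).trans hd
  by_cases h1 : topologicalKrullDim (closure ({y} : Set X)) = 1
  · have hdim : topologicalKrullDim (IntMult.ptIdeal y).subscheme = 1 :=
      (dim_ptIdeal_subscheme y).trans h1
    have h := curveDeg_eq k (IntMult.ptIdeal y).subschemeι hL hdim.le
    rw [hnum _ (IntMult.ptIdeal y).subschemeι (CohTwo.isIntegral_closure_subscheme rfl) hdim] at h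
    exact neg_eq_zero.1 h.symm
  · exact delta_eq_zero k [L] (by simpa using hL) _ (KTheory.Devissage.isCoh_closureStructureSheaf y)
      (lt_of_le_of_lt (LocCohTransform.topologicalKrullDim_mono
        (KTheory.Devissage.support_closureStructureSheaf_subset y)) (lt_one_of_ne hyd h1))

/-- On an integral proper scheme a nonzero section of a numerically trivial invertible module
generates it everywhere. -/
theorem gloc_eq_top_of_numEquivZero [IsIntegral X] {L : X.Modules} (hL : PicF.IsInvertible L)
    (hnum : Pic13.IsNumEquivZero k X L) {t : Γ(L, (⊤ : X.Opens))} (ht : t ≠ 0) : gloc t = ⊤ := by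
  have hN : IsNoetherian X := Inter.isNoetherian k
  have := quasiSeparatedSpace_of_quasiSeparated (X ↘ Spec (CommRingCat.of k))
  by_contra hne
  have hne' : ((gloc t : X.Opens) : Set X)ᶜ.Nonempty := Set.nonempty_compl.2 fun h => hne (Opens.ext h)
  obtain ⟨x, hx, hxc⟩ := (gloc t).isOpen.isClosed_compl.exists_closed_singleton hne'
  obtain ⟨y, hyt, hyx, hy1⟩ := exists_curve_through (X ↘ Spec (CommRingCat.of k)) (gloc t) hxc hx
    (genericPoint_mem_gloc hL ht) (genericPoint_specializes x)
  have hO := KTheory.Devissage.isCoh_closureStructureSheaf y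
  have hOs := support_closureStructureSheaf_eq k y
  obtain ⟨G, q, hq, hG, hsupp, hmono⟩ := exists_quotient_injective hO t inferInstance
  have hyG : y ∈ CohB1.support G := hsupp y hyt (hOs ▸ subset_closure rfl)
  have hxG : x ∈ CohB1.support G :=
    (CohTwo.isClosed_support G hG).closure_subset_iff.2 (Set.singleton_subset_iff.2 hyG) hyx.mem_closure
  have hGY : CohB1.support G ⊆ closure {y} :=
    (KTheory.Devissage.support_subset_of_epi q).trans hOs.subset
  have hGd : topologicalKrullDim (CohB1.support G) ≤ ((1 : ℕ) : WithBot ℕ∞) :=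
    (LocCohTransform.topologicalKrullDim_mono hGY).trans hy1.le
  have hGL : Coh.IsCoh (CohB1.tensorMod G L) :=
    QCohMod.isCoh_of_iso (tensor_comm L G).some (Inter.isCoh_twist hL hG)
  have := hG.1
  have := hGL.1
  let Q := cokernel (HilbStab.mulSec t G)
  have hQ : Coh.IsCoh Q := QCohMod.isCoh_cokernel _ hGL
  have hxQ : x ∈ CohB1.support Q := mem_support_cokernel_mulSec hL t hG hxG hx
  have hQY : CohB1.support Q ⊆ closure {y} :=
    (KTheory.Devissage.support_subset_of_epi (cokernel.π (HilbStab.mulSec t G))).trans
      ((HilbStab.support_tensorMod_subset hL G).trans hGY)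
  have hQ0 : topologicalKrullDim (CohB1.support Q) ≤ ((0 : ℕ) : WithBot ℕ∞) :=
    lt_natCast_succ_iff.1 (lt_of_lt_of_eq (LocCohTransform.topologicalKrullDim_lt_of_ssubset hQY
      (fun h => HilbStab.support_cokernel_mulSec_subset t G (h (subset_closure rfl)) hyt)
      (CohTwo.isClosed_support _ hQ) isClosed_closure isIrreducible_singleton.closure
      (hy1 ▸ WithBot.coe_lt_coe.2 (ENat.natCast_lt_top 1))) hy1)
  have hpos : 0 < delta k [] Q := by
    refine delta_pos k [] (by simp) Q hQ (le_antisymm hQ0 ?_)
    rw [List.length_nil, Nat.cast_zero]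
    have : Nonempty (IrreducibleCloseds (CohB1.support Q)) :=
      ⟨⟨closure {⟨x, hxQ⟩}, isIrreducible_singleton.closure, isClosed_closure⟩⟩
    exact Order.krullDim_nonneg
  have hadd := delta_add k (l := []) (by simp) (CohTwo.cokerSeq_shortExact (HilbStab.mulSec t G)) hG hQ
  change delta k [] (CohB1.tensorMod G L) = delta k [] G + delta k [] Q at hadd
  have h0 := delta_one_of_numEquivZero k hL hnum hG hGd
  rw [delta_cons, delta_congr k [] (tensor_comm L G), hadd, sub_add_cancel_left, neg_eq_zero] at h0
  exact hpos.ne' h0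

end Groth.Pic13Aux
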