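import Groth.Agent.FlatStrata.Uniform
import Groth.Agent.FlatStrata.Hilbert
import Groth.Agent.CohTwo.TwistOnHilbert
import Groth.Agent.Variety2.Reg.Closed
import Groth.Agent.S2426
import Groth.Prelude.Def_Pic13

/-!
# Bounded families: uniform regularity and finitely many Hilbert polynomials
-/

set_option autoImplicit false
set_option linter.style.haveILetI false

universe u

open CategoryTheory CategoryTheory.Limits AlgebraicGeometry TopologicalSpace Opposite
open scoped TensorProduct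

namespace Groth.Pic13Aux

open Groth.FlatStrata Groth.PicAux
open Groth.CohBase hiding res res_res

variable {k : Type u} [Field k] {n : ℕ} {X : Scheme.{u}} [X.Over (Spec (CommRingCat.of k))]
  (i : X ⟶ CohB1.ProjSpace n k) [IsClosedImmersion i]

/-- The high twists of `L` are acyclic with Hilbert function in a given set. -/
def TwistsGood (L : X.Modules) (N : ℕ) (H : Set (ℕ → ℕ)) : Prop :=
  (∀ d : ℕ, N ≤ d → ∀ p : ℕ, 1 ≤ p → Subsingleton (Coh.HH X (Pic13.twistOn k i L d) p)) ∧
    ∃ h ∈ H, ∀ d : ℕ, N ≤ d → Module.finrank k (Coh.HH X (Pic13.twistOn k i L d) 0) = h d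

omit [IsClosedImmersion i] in
theorem TwistsGood.mono {L : X.Modules} {N N' : ℕ} {H H' : Set (ℕ → ℕ)} (hN : N ≤ N') (hH : H ⊆ H')
    (h : TwistsGood i L N H) : TwistsGood i L N' H' :=
  ⟨fun d hd => h.1 d (hN.trans hd), h.2.choose, hH h.2.choose_spec.1,
    fun d hd => h.2.choose_spec.2 d (hN.trans hd)⟩

variable [IsProper (X ↘ Spec (CommRingCat.of k))]

/-- Uniformity over an affine piece of the parameter scheme. -/
theorem exists_twistsGood_affine {T : Scheme.{u}} (q : T ⟶ Spec (CommRingCat.of k)) [LocallyOfFiniteType q]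
    (F : (Pic13.prodK k X q).Modules) (hF : Coh.IsCoh F) {V : T.Opens} (hV : IsAffineOpen V) :
    ∃ (N : ℕ) (H : Set (ℕ → ℕ)), H.Finite ∧ ∀ (t : Spec (CommRingCat.of k) ⟶ T) (ht : t ≫ q = 𝟙 _),
      Set.range t ⊆ (V : Set T) → TwistsGood i (Pic13.fibreMod k X q t ht F) N H := by
  let pX := X ↘ Spec (CommRingCat.of k)
  have : IsLocallyNoetherian T := LocallyOfFiniteType.isLocallyNoetherian q
  have : IsNoetherianRing Γ(T, V) := IsLocallyNoetherian.component_noetherian (X := T) ⟨V, hV⟩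
  let σ : Spec (CommRingCat.of Γ(T, V)) ⟶ Spec (CommRingCat.of k) := hV.fromSpec ≫ q
  let XB := pullback pX σ
  letI : XB.Over (Spec (CommRingCat.of Γ(T, V))) := ⟨pullback.snd pX σ⟩
  have : IsProper (XB ↘ Spec (CommRingCat.of Γ(T, V))) :=
    inferInstanceAs (IsProper (pullback.snd pX σ))
  let μ : XB ⟶ Pic13.prodK k X q :=
    pullback.lift (pullback.fst pX σ) (pullback.snd pX σ ≫ hV.fromSpec)
      (by rw [Category.assoc]; exact pullback.condition)
  let FB := (Scheme.Modules.pullback μ).obj F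
  have hFB : Coh.IsCoh FB := isCoh_pullback μ hF
  let LB := (Scheme.Modules.pullback (pullback.fst pX σ)).obj (CohTwo.TwistOnHilb.L1 i)
  have : IsAffineHom (pullback.fst pX σ) :=
    MorphismProperty.pullback_fst pX σ (inferInstanceAs (IsAffineHom σ))
  have hLB : CohB1.IsAmple LB :=
    Groth.Chow.isAmple_pullback_of_isAffineHom (pullback.fst pX σ) (CohTwo.TwistOnHilb.isAmple_L1 i)
  obtain ⟨N, H, hH, hgood⟩ := exists_uniform (A := Γ(T, V)) hLB FB hFB
  refine ⟨N, H, hH, fun t ht htV => ?_⟩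
  let tB : Spec (CommRingCat.of k) ⟶ Spec (CommRingCat.of Γ(T, V)) :=
    IsOpenImmersion.lift hV.fromSpec t (by rw [hV.range_fromSpec]; exact htV)
  have htB : tB ≫ hV.fromSpec = t := IsOpenImmersion.lift_fac _ _ _
  have htσ : tB ≫ σ = 𝟙 _ := by simp only [σ, reassoc_of% htB, ht]
  letI : Algebra Γ(T, V) k := (Spec.preimage tB).hom.toAlgebra
  have hmap : Spec.map (CommRingCat.ofHom (algebraMap Γ(T, V) k)) = tB := by
    rw [RingHom.algebraMap_toAlgebra]; exact Spec.map_preimage _
  let sl : X ⟶ XB := pullback.lift (𝟙 X) (pX ≫ tB)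
    (by rw [Category.id_comp, Category.assoc, htσ, Category.comp_id])
  have hsl1 : sl ≫ pullback.fst pX σ = 𝟙 X := pullback.lift_fst _ _ _
  have hsl2 : sl ≫ pullback.snd pX σ = pX ≫ tB := pullback.lift_snd _ _ _
  have hsq : IsBC (A := Γ(T, V)) (A' := k) sl := by
    change IsPullback sl pX (pullback.snd pX σ) (Spec.map _)
    rw [hmap]
    refine IsPullback.of_right ?_ hsl2 (IsPullback.of_hasPullback pX σ)
    rw [hsl1, htσ]
    exact IsPullback.of_horiz_isIso ⟨by simp⟩
  have hslμ : sl ≫ μ = Pic13.sliceAt k X q t ht := by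
    apply pullback.hom_ext
    · exact (Category.assoc _ _ _).trans ((congrArg (sl ≫ ·) (pullback.lift_fst _ _ _)).trans
        (hsl1.trans (pullback.lift_fst _ _ _).symm))
    · refine (Category.assoc _ _ _).trans ((congrArg (sl ≫ ·) (pullback.lift_snd _ _ _)).trans
        (Eq.trans ?_ (pullback.lift_snd _ _ _).symm))
      rw [← Category.assoc, hsl2, Category.assoc, htB]
  let L := Pic13.fibreMod k X q t ht F
  let θ : ∀ d : ℕ, (Scheme.Modules.pullback sl).obj (tw FB LB d) ≅ Pic13.twistOn k i L d := fun d =>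
    (exists_pullback_tensorMod sl FB (CohB1.tensorPow LB d)).choose ≪≫
      PicGrp.tensorModIso
        ((Scheme.Modules.pullbackComp sl μ).app F ≪≫ (Scheme.Modules.pullbackCongr hslμ).app F)
        ((Scheme.Modules.pullback sl).mapIso
            (PicAux.pullback_tensorPow (pullback.fst pX σ) (CohTwo.TwistOnHilb.L1 i) d).some.symm ≪≫
          (Scheme.Modules.pullbackComp sl (pullback.fst pX σ)).app _ ≪≫
          (Scheme.Modules.pullbackCongr hsl1).app _ ≪≫ (Scheme.Modules.pullbackId X).app _) ≪≫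
      (CohTwo.TwistOnHilb.nonempty_twist_iso i L d).some
  obtain ⟨h1, h, hh, h2⟩ := hgood k X sl hsq
  refine ⟨fun d hd p hp => ?_, h, hh, fun d hd => ?_⟩
  · exact Variety2.Reg.subsingleton_of_iso k (θ d) ((h1 d hd).2 p hp)
  · refine (EulerDeg.hEquiv k (θ d) 0).finrank_eq.symm.trans ?_
    refine (finrank_HH_zero (K := k) _).trans ?_
    exact (LinearEquiv.ofBijective _ (h1 d hd).1).finrank_eq.symm.trans (h2 d hd)

/-- The members of a bounded family are uniformly good. -/
theorem exists_twistsGood (P : X.Modules → Prop) (hb : Pic13.IsBounded k X P) :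
    ∃ (N : ℕ) (H : Set (ℕ → ℕ)), H.Finite ∧ ∀ L, P L → ∃ L', Nonempty (L' ≅ L) ∧ TwistsGood i L' N H := by
  classical
  obtain ⟨T, q, hlft, hqc, F, hF, hFP⟩ := hb
  have : CompactSpace T := QuasiCompact.compactSpace_of_compactSpace q
  obtain ⟨S, hS, hcov⟩ := isCompact_and_isOpen_iff_finite_and_eq_biUnion_affineOpens.mp
    ⟨(isCompact_univ : IsCompact (Set.univ : Set T)), isOpen_univ⟩
  have : Finite S := hS.to_subtype
  choose N H hH hgood using fun V : S => exists_twistsGood_affine i q F hF V.1.2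
  obtain ⟨N₀, hN₀⟩ := (Set.finite_range N).bddAbove
  refine ⟨N₀, ⋃ V, H V, Set.finite_iUnion hH, fun L hL => ?_⟩
  obtain ⟨t, ht, e⟩ := hFP L hL
  refine ⟨_, e, ?_⟩
  let pt : Spec (CommRingCat.of k) := IsLocalRing.closedPoint k
  obtain ⟨V, hVS, hV⟩ := Set.mem_iUnion₂.1 (hcov.le (Set.mem_univ (t pt)))
  refine (hgood ⟨V, hVS⟩ t ht ?_).mono i (hN₀ ⟨_, rfl⟩) (Set.subset_iUnion H _)
  rintro _ ⟨y, rfl⟩
  rwa [Subsingleton.elim y pt]

end Groth.Pic13Aux
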