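import Groth.Agent.FlatStrata.Model
import Groth.Agent.Variety2.Reg.Seq
import Groth.Agent.Variety2.Reg.Closed
import Groth.Agent.HilbStab.Scalar
import Groth.Agent.QCohMod.Killed
import Groth.Agent.PnEuler.EndOmega
import Groth.Agent.Curves1.RR.RankOne
import Groth.Agent.CohTwo.TwistOnHilbert
import Groth.Agent.Variety2.ProjBasics
import Groth.Prelude.Def_Pic13

/-!
# Regular modules with a fixed Hilbert polynomial form a bounded family
-/

set_option autoImplicit false
set_option linter.style.haveILetI false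
set_option backward.isDefEq.respectTransparency.types false

universe u

open CategoryTheory CategoryTheory.Limits AlgebraicGeometry TopologicalSpace Opposite

namespace Groth.Pic13Aux

open Groth.PicAux Groth.HilbStab

section Pullback

variable {X Y : Scheme.{u}} (f : X ⟶ Y)

/-- Inverse images commute with multiplication by functions. -/
theorem pullback_map_scalar (g : Γ(Y, (⊤ : Y.Opens))) (M : Y.Modules) :
    (Scheme.Modules.pullback f).map (scalar g M) =
      scalar (f.appTop g) ((Scheme.Modules.pullback f).obj M) := by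
  let adj := Scheme.Modules.pullbackPushforwardAdjunction f
  refine (adj.homEquiv _ _).injective ?_
  rw [Adjunction.homEquiv_unit, Adjunction.homEquiv_unit]
  refine Groth.CohTwo.hom_ext_app fun U m => ?_
  change ((Scheme.Modules.pullback f).map (scalar g M)).app (f ⁻¹ᵁ U) (pullSec f M m) =
    (scalar (f.appTop g) _).app (f ⁻¹ᵁ U) (pullSec f M m)
  rw [pullSec_map, scalar_app, scalar_app, pullSec_smul]
  exact congrArg (· • pullSec f M m)
    (congr(($(f.naturality (homOfLE (le_top : U ≤ ⊤)).op)).hom g))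

end Pullback

variable {k : Type u} [Field k] {X : Scheme.{u}} [X.Over (Spec (CommRingCat.of k))]

/-- A constant as a global function. -/
noncomputable abbrev cst (c : k) : Γ(X, (⊤ : X.Opens)) := Coh.toGlobal (X ↘ Spec (CommRingCat.of k)) c

/-- The cokernels of the linear combinations of finitely many maps form a bounded family. -/
theorem isBounded_cokernel [IsProper (X ↘ Spec (CommRingCat.of k))] {E₁ E₀ : X.Modules}
    (h₁ : Coh.IsCoh E₁) (h₀ : Coh.IsCoh E₀) {M : ℕ} (v : Fin M → (E₁ ⟶ E₀)) (P : X.Modules → Prop)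
    (hP : ∀ L, P L → ∃ c : Fin M → k, Nonempty (L ≅ cokernel (∑ l, v l ≫ scalar (cst (c l)) E₀))) :
    Pic13.IsBounded k X P := by
  let A := MvPolynomial (Fin M) k
  let q : Spec (CommRingCat.of A) ⟶ Spec (CommRingCat.of k) :=
    Spec.map (CommRingCat.ofHom MvPolynomial.C)
  have hlft : LocallyOfFiniteType q := by
    rw [HasRingHomProperty.Spec_iff (P := @LocallyOfFiniteType)]
    exact RingHom.finiteType_algebraMap.2 (inferInstanceAs (Algebra.FiniteType k A))
  have : IsLocallyNoetherian (Pic13.prodK k X q) :=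
    LocallyOfFiniteType.isLocallyNoetherian (pullback.snd (X ↘ Spec (CommRingCat.of k)) q)
  let pr : Pic13.prodK k X q ⟶ X := pullback.fst _ _
  let π : Pic13.prodK k X q ⟶ Spec (CommRingCat.of A) := pullback.snd _ _
  let g : Fin M → Γ(Pic13.prodK k X q, (⊤ : (Pic13.prodK k X q).Opens)) := fun l =>
    Coh.toGlobal π (MvPolynomial.X l)
  let Φ : (Scheme.Modules.pullback pr).obj E₁ ⟶ (Scheme.Modules.pullback pr).obj E₀ :=
    ∑ l, (Scheme.Modules.pullback pr).map (v l) ≫ scalar (g l) _
  have hc₁ := FlatStrata.isCoh_pullback pr h₁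
  have hc₀ := FlatStrata.isCoh_pullback pr h₀
  have := hc₁.1
  have := hc₀.1
  refine ⟨Spec (CommRingCat.of A), q, hlft, inferInstanceAs (QuasiCompact q), cokernel Φ,
    QCohMod.isCoh_cokernel Φ hc₀, fun L hL => ?_⟩
  obtain ⟨c, ⟨e⟩⟩ := hP L hL
  let t : Spec (CommRingCat.of k) ⟶ Spec (CommRingCat.of A) :=
    Spec.map (CommRingCat.ofHom (MvPolynomial.eval c))
  have ht : t ≫ q = 𝟙 _ := by
    rw [← Spec.map_comp, ← Spec.map_id]
    congr 1
    ext a
    exact MvPolynomial.eval_C a
  let s := Pic13.sliceAt k X q t ht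
  have hs₁ : s ≫ pr = 𝟙 X := pullback.lift_fst _ _ _
  have hs₂ : s ≫ π = (X ↘ Spec (CommRingCat.of k)) ≫ t := pullback.lift_snd _ _ _
  refine ⟨t, ht, ⟨?_ ≪≫ e.symm⟩⟩
  let θ : Scheme.Modules.pullback pr ⋙ Scheme.Modules.pullback s ≅ 𝟭 X.Modules :=
    Scheme.Modules.pullbackComp s pr ≪≫ Scheme.Modules.pullbackCongr hs₁ ≪≫ Scheme.Modules.pullbackId X
  have hg : ∀ l, s.appTop (g l) = cst (c l) := by
    intro l
    have h1 : (s ≫ π).appTop ((Scheme.ΓSpecIso (CommRingCat.of A)).inv (MvPolynomial.X l)) =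
        (X ↘ Spec (CommRingCat.of k)).appTop
          (t.appTop ((Scheme.ΓSpecIso (CommRingCat.of A)).inv (MvPolynomial.X l))) := by
      rw [hs₂]; rfl
    refine h1.trans ?_
    change _ = (X ↘ Spec (CommRingCat.of k)).appTop ((Scheme.ΓSpecIso (CommRingCat.of k)).inv (c l))
    refine congrArg _ ?_
    have h2 := congr(($(Scheme.ΓSpecIso_inv_naturality (CommRingCat.ofHom (MvPolynomial.eval c)))).hom
      (MvPolynomial.X l))
    exact h2.symm.trans (congrArg (Scheme.ΓSpecIso (CommRingCat.of k)).inv.hom (MvPolynomial.eval_X l))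
  have : (Scheme.Modules.pullback s).Additive := FlatStrata.additive_pullback s
  have hΦ : (Scheme.Modules.pullback s).map Φ ≫ θ.hom.app E₀ =
      θ.hom.app E₁ ≫ ∑ l, v l ≫ scalar (cst (c l)) E₀ := by
    rw [Functor.map_sum, Preadditive.sum_comp, Preadditive.comp_sum]
    refine Finset.sum_congr rfl fun l _ => ?_
    rw [Functor.map_comp, pullback_map_scalar, hg, Category.assoc, PnEuler.scalar_comp]
    exact (Category.assoc _ _ _).symm.trans
      ((congrArg (· ≫ scalar (cst (c l)) E₀) (θ.hom.naturality (v l))).trans (Category.assoc _ _ _))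
  exact PreservesCokernel.iso (Scheme.Modules.pullback s) Φ ≪≫
    cokernel.mapIso _ _ (θ.app E₁) (θ.app E₀) hΦ

section Pn

variable {n : ℕ}

open Groth.Variety2.Reg

/-- A regular module is generated in degree `m` by a spanning family of sections, with regular kernel. -/
theorem exists_epi_sigma_span {F : (CohB1.ProjSpace n k).Modules} (hF : Coh.IsCoh F) {m : ℤ}
    (h : Curv2.IsMRegular k n F m) {b : ℕ}
    (hb : Module.finrank k (Coh.HH (CohB1.ProjSpace n k) (fT F m) 0) ≤ b) :
    ∃ φ : (∐ fun _ : Fin b => Twist.twistProjSpace n k (-m)) ⟶ F,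
      Epi φ ∧ Curv2.IsMRegular k n (kernel φ) (m + 1) := by
  haveI := hF.1
  let T := DCoh.tensorRightMod (Twist.twistProjSpace n k m)
  haveI := isEquivalence_tensorRightMod_of_isInvertible (isInvertible_tw (n := n) (k := k) m)
  let f := (CohB1.ProjSpace n k) ↘ Spec (CommRingCat.of k)
  have hfin : Module.Finite k (CohFin.HA f (fT F m) 0) := PnCoh.hFin_projSpace n k _ (isCoh_fT F hF m) 0
  let bas := Module.finBasis k (CohFin.HA f (fT F m) 0)
  let t : Fin b → Γ(fT F m, ⊤) := fun l =>
    if hl : l.1 < Module.finrank k (CohFin.HA f (fT F m) 0) then CohFin.equivSections f _ (bas ⟨l, hl⟩)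
    else 0
  obtain ⟨e⟩ : Nonempty (T.obj (Twist.twistProjSpace n k (-m)) ≅ Coh.structureModule _) := by
    obtain ⟨e⟩ := Ega2Proj.nonempty_tensor_iso (gen_one n k) (-m) m
    exact ⟨e ≪≫ eqToIso (congrArg (Twist.twist (CohB1.polyGrading n k)) (neg_add_cancel m)) ≪≫
      nonempty_twist_zero.some⟩
  choose c hc using fun l => T.map_surjective (X := Twist.twistProjSpace n k (-m)) (Y := F)
    (e.hom ≫ homOfSection (t l))
  let φ := Sigma.desc c
  let S := fun _ : Fin b => Twist.twistProjSpace n k (-m)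
  have hhit : ∀ v : Γ(fT F m, ⊤), ∃ s, (T.map φ).app ⊤ s = v := by
    intro v
    obtain ⟨x, rfl⟩ := (CohFin.equivSections f (fT F m)).surjective v
    have hx : x ∈ Submodule.span k (Set.range bas) := by rw [bas.span_eq]; trivial
    induction hx using Submodule.span_induction with
    | mem y hy =>
      obtain ⟨j, rfl⟩ := hy
      let l : Fin b := ⟨j, j.2.trans_le hb⟩
      refine ⟨(T.map (Sigma.ι S l)).app ⊤ (e.inv.app ⊤ (PicAux.oneSec _ ⊤)), ?_⟩
      have h1 : e.inv ≫ T.map (Sigma.ι S l) ≫ T.map φ = homOfSection (t l) := by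
        rw [← T.map_comp, Sigma.ι_desc, hc, Iso.inv_hom_id_assoc]
        rfl
      refine ((congr(($h1).app ⊤ (PicAux.oneSec _ ⊤))).trans (homOfSection_one _)).trans ?_
      simp [t, l, j.2]
    | zero => exact ⟨0, (map_zero _).trans (map_zero _).symm⟩
    | add u v _ _ hu hv =>
      obtain ⟨p, hp⟩ := hu
      obtain ⟨q, hq⟩ := hv
      exact ⟨p + q, ((map_add _ p q).trans (congrArg₂ (· + ·) hp hq)).trans (map_add _ u v).symm⟩
    | smul a u _ hu => rw [CohFin.equivSections_smul]; exact app_top_smul_closed _ _ hu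
  have hepi : Epi φ := ⟨fun {Z} ψ ψ' he => by
    refine T.map_injective (detByGlobal_of_mReg F hF h le_rfl _ _ fun v => ?_)
    obtain ⟨s, rfl⟩ := hhit v
    have h1 : T.map φ ≫ T.map ψ = T.map φ ≫ T.map ψ' := by rw [← T.map_comp, ← T.map_comp, he]
    exact congr(($h1).app ⊤ s)⟩
  refine ⟨φ, hepi, fun i hi hin => ?_⟩
  haveI := hepi
  obtain ⟨i, rfl⟩ : ∃ i', i = i' + 1 := ⟨i - 1, by omega⟩
  rw [show m + 1 - ((i + 1 : ℕ) : ℤ) = m - i by push_cast; ring]
  have hsig : Subsingleton (Coh.HH _ (fT (∐ S) (m - i)) (i + 1)) :=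
    subsingleton_fT_sigma b (-m) (m - i)
      (PnCoh.subsingleton_HH_twist _ (i + 1) (fun h => by omega) fun h => by omega)
  cases i with
  | zero =>
    refine subsingleton_one_of_surjective k (shortExact_fT (kernel_shortExact φ) (m - (0 : ℕ))) ?_ hsig
    rw [Nat.cast_zero, sub_zero]
    exact hhit
  | succ i =>
    exact subsingleton_left k (shortExact_fT (kernel_shortExact φ) (m - (i + 1 : ℕ)))
      (vanish_of_mReg F h (by omega) le_rfl) hsig

/-- Maps out of finite sums of a twist are combinations of finitely many. -/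
theorem exists_span_hom (b : ℕ) (a : ℤ) {G : (CohB1.ProjSpace n k).Modules} (hG : Coh.IsCoh G) :
    ∃ (M : ℕ) (v : Fin M → ((∐ fun _ : Fin b => Twist.twistProjSpace n k (-a)) ⟶ G)),
      ∀ u, ∃ c : Fin M → k, u = ∑ l, v l ≫ scalar (cst (c l)) G := by
  let f := (CohB1.ProjSpace n k) ↘ Spec (CommRingCat.of k)
  let T := DCoh.tensorRightMod (Twist.twistProjSpace n k a)
  haveI := isEquivalence_tensorRightMod_of_isInvertible (isInvertible_tw (n := n) (k := k) a)
  haveI : T.Additive := DCoh.additive_tensorRightMod _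
  have hfin : Module.Finite k (CohFin.HA f (fT G a) 0) := PnCoh.hFin_projSpace n k _ (isCoh_fT G hG a) 0
  let r := Module.finrank k (CohFin.HA f (fT G a) 0)
  let bas := Module.finBasis k (CohFin.HA f (fT G a) 0)
  let t : Fin r → Γ(fT G a, ⊤) := fun l => CohFin.equivSections f _ (bas l)
  obtain ⟨e⟩ : Nonempty (T.obj (Twist.twistProjSpace n k (-a)) ≅ Coh.structureModule _) := by
    obtain ⟨e⟩ := Ega2Proj.nonempty_tensor_iso (gen_one n k) (-a) a
    exact ⟨e ≪≫ eqToIso (congrArg (Twist.twist (CohB1.polyGrading n k)) (neg_add_cancel a)) ≪≫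
      nonempty_twist_zero.some⟩
  choose v₀ hv₀ using fun l => T.map_surjective (X := Twist.twistProjSpace n k (-a)) (Y := G)
    (e.hom ≫ homOfSection (t l))
  have key : ∀ w : Twist.twistProjSpace n k (-a) ⟶ G,
      ∃ c : Fin r → k, w = ∑ l, v₀ l ≫ scalar (cst (c l)) G := by
    intro w
    let σ := (e.inv ≫ T.map w).app ⊤ (PicAux.oneSec _ ⊤)
    obtain ⟨y, hy⟩ := (CohFin.equivSections f (fT G a)).surjective σ
    refine ⟨fun l => bas.repr y l, T.map_injective ?_⟩
    rw [← cancel_epi e.inv, Functor.map_sum, Preadditive.comp_sum]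
    refine hom_structure_ext ?_
    let ev : (Coh.structureModule (CohB1.ProjSpace n k) ⟶ fT G a) →+ Γ(fT G a, ⊤) :=
      AddMonoidHom.mk' (fun ρ => ρ.app ⊤ (PicAux.oneSec _ ⊤)) fun ρ ρ' => rfl
    refine Eq.trans ?_ (map_sum ev _ Finset.univ).symm
    refine hy.symm.trans ((congrArg _ (bas.sum_repr y).symm).trans ((map_sum _ _ _).trans ?_))
    refine Finset.sum_congr rfl fun l _ => ?_
    rw [CohFin.equivSections_smul]
    have h1 : e.inv ≫ T.map (v₀ l ≫ scalar (cst (bas.repr y l)) G) =
        homOfSection (t l) ≫ scalar (cst (bas.repr y l)) (fT G a) := by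
      rw [Functor.map_comp, hv₀, Category.assoc, Iso.inv_hom_id_assoc, HilbStab.tensor_scalar]
      rfl
    refine Eq.trans ?_ (congr(($h1).app ⊤ (PicAux.oneSec _ ⊤))).symm
    change _ = (scalar _ (fT G a)).app ⊤ ((homOfSection (t l)).app ⊤ (PicAux.oneSec _ ⊤))
    rw [homOfSection_one, scalar_app, resX_self]
  let L := fun _ : Fin b => Twist.twistProjSpace n k (-a)
  refine ⟨b * r, fun p => PnCoh.sigmaProj L (finProdFinEquiv.symm p).1 ≫ v₀ (finProdFinEquiv.symm p).2,
    fun u => ?_⟩
  choose c hc using fun j : Fin b => key (Sigma.ι L j ≫ u)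
  refine ⟨fun p => c (finProdFinEquiv.symm p).1 (finProdFinEquiv.symm p).2, ?_⟩
  rw [← finProdFinEquiv.sum_comp, Fintype.sum_prod_type]
  conv_lhs => rw [← Category.id_comp u, ← PnCoh.sigmaProj_total, Preadditive.sum_comp]
  refine Finset.sum_congr rfl fun j _ => ?_
  rw [Category.assoc, hc j, Preadditive.comp_sum]
  refine Finset.sum_congr rfl fun l _ => ?_
  beta_reduce
  erw [Equiv.symm_apply_apply]
  exact (Category.assoc _ (v₀ l) _).symm

end Pn

end Groth.Pic13Aux
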