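import Groth.Agent.Pic13Aux.BoundedTau
import Groth.Agent.Misc13.NumTriv.Uniform
import Groth.Agent.Misc13.NumTriv.FieldExt
import Groth.Agent.S4285
import Groth.Agent.S2426
import Groth.Agent.Pic13Aux.BoundedRegular

/-!
# Numerically trivial invertible modules on a projective scheme form a bounded family
-/

set_option autoImplicit false
set_option linter.style.haveILetI false

universe u

open CategoryTheory CategoryTheory.Limits AlgebraicGeometry TopologicalSpace

namespace Groth.Pic13Aux

open Groth.PicAux Groth.Inter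

variable {k : Type u} [Field k] {X : Scheme.{u}} [X.Over (Spec (CommRingCat.of k))]
  [IsProper (X ↘ Spec (CommRingCat.of k))]

/-- On a closed subscheme of `P^n` the characteristic is the sum up to degree `n`. -/
theorem euler_twistOn_eq {n : ℕ} (i : X ⟶ CohB1.ProjSpace n k) [IsClosedImmersion i] {F : X.Modules}
    (hF : Coh.IsCoh F) (d : ℤ) :
    Curv2.euler k X (Pic13.twistOn k i F d) = FGA.eulerCharLE k X (Pic13.twistOn k i F d) n := by
  have := hF.1
  refine EulerDeg.euler_eq_sum (k := k) (N := n + 1) fun q hq => ?_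
  haveI : (Variety2.Reg.pF i F).IsQuasicoherent := (Variety2.Reg.isCoh_pF i F hF).1
  haveI : Subsingleton (Coh.HH X (Pic13.twistOn k i F d) q) :=
    (Variety2.Reg.subsingleton_twistOn_iff i F d q).2
      (Variety2.Reg.subsingleton_fT_of_lt _ _ (by omega))
  first
    | exact this
    | exact Module.finrank_zero_of_subsingleton

/-- A subfamily of a bounded family is bounded. -/
theorem isBounded_mono {P Q : X.Modules → Prop} (h : Pic13.IsBounded k X Q)
    (hPQ : ∀ L, P L → Q L) : Pic13.IsBounded k X P := by
  obtain ⟨T, q, h₁, h₂, F, hF, hQ⟩ := h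
  exact ⟨T, q, h₁, h₂, F, hF, fun L hL => hQ L (hPQ L hL)⟩

variable [IsAlgClosed k]

/-- Numerically trivial invertible modules form a bounded family. -/
theorem isBounded_numEquivZero {A : X.Modules} (hA : CohB1.IsAmple A) :
    Pic13.IsBounded k X (fun L => PicF.IsInvertible L ∧ Pic13.IsNumEquivZero k X L) := by
  have hN : IsNoetherian X := Inter.isNoetherian k
  obtain ⟨n, p, i, -, hci, hi, -⟩ :=
    PnCoh.exists_closedImmersion_of_isAmple (X ↘ Spec (CommRingCat.of k)) hA
  haveI := hci
  have hO : Coh.IsCoh (Coh.structureModule X) :=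
    Inter.isCoh_of_isInvertible (EulerDeg.isInvertible_structureModule X)
  obtain ⟨φ, hφ⟩ := Groth.Agent.S2426.result k n X i hi (Coh.structureModule X) hO
  obtain ⟨-, m, hm⟩ := Misc13.NumTriv.goodNT k i hi hA hO
  refine isBounded_mono (Groth.Agent.S4285.result k n X i hi m φ) fun L ⟨hL, hnum⟩ => ?_
  have hnt : Misc13.NumTriv.NT k L := Misc13.NumTriv.nt_of_numEquivZero k hL hnum
  have hLc := Inter.isCoh_of_isInvertible hL
  refine ⟨hLc, Misc13.NumTriv.mReg_iso k i (tensor_one L).some (hm L hnt), fun d => ?_⟩
  rw [← euler_twistOn_eq i hLc d,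
    EulerDeg.euler_congr k (((Misc13.NumTriv.twistOn_congr k i (tensor_one L).some.symm d).some ≪≫
      (Misc13.NumTriv.twistOn_tensor k i (Coh.structureModule X) L d).some)),
    Misc13.NumTriv.euler_tensor k hnt (Misc13.NumTriv.isCoh_twistOn k i hO d),
    euler_twistOn_eq i hO d]
  have h3 : ∀ (W : Type u) [AddCommGroup W] [Module k W],
      (Module.length k W).toNat = Module.finrank k W := fun W _ _ => by
    by_cases hW : Module.Finite k W
    · rw [Module.length_eq_finrank]; rfl
    · rw [Module.finrank_of_not_finite hW, Module.length_eq_rank, Cardinal.toENat_eq_top.2]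
      · rfl
      · exact not_lt.1 fun hlt => hW (Module.rank_lt_aleph0_iff.1 hlt)
  rw [← hφ d]
  simp only [FGA.eulerCharLE, Int.cast_sum, Int.cast_mul, Int.cast_pow, Int.cast_neg, Int.cast_one,
    Int.cast_natCast, h3]
  rfl

/-- On a projective scheme numerical triviality implies τ-equivalence to zero. -/
theorem isTauEquivZero_of_numEquivZero {A : X.Modules} (hA : CohB1.IsAmple A) {L : X.Modules}
    (hL : PicF.IsInvertible L) (hnum : Pic13.IsNumEquivZero k X L) : Pic13.IsTauEquivZero k X L :=
  isTauEquivZero_of_isBounded_powers hL (isBounded_numEquivZero hA) fun m =>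
    ⟨PicAux.isInvertible_tensorPow hL m,
      (Misc13.NumTriv.nt_iff k (PicAux.isInvertible_tensorPow hL m)).1
        (Misc13.NumTriv.nt_pow k (Misc13.NumTriv.nt_of_numEquivZero k hL hnum) m)⟩

end Groth.Pic13Aux
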