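import Groth.Agent.Pic13Aux.FibreGen
import Groth.Agent.S1455
import Groth.Agent.GitGeomQuot.Basic
import Groth.Agent.PicAux.Powers
import Groth.Agent.FlatStrata.Model
import Groth.Prelude.Def_Pic13

/-!
# A bounded set of powers makes an invertible module τ-equivalent to zero
-/

set_option autoImplicit false
set_option linter.style.haveILetI false

universe u

open CategoryTheory CategoryTheory.Limits AlgebraicGeometry TopologicalSpace

namespace Groth.Pic13Aux

open Groth.PicAux

/-- A morphism from the spectrum of a field lifts to a closed subscheme through its point. -/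
theorem exists_lift_kPoint {K : Type u} [Field K] {T Z : Scheme.{u}} (c : Z ⟶ T) [IsClosedImmersion c]
    (t : Spec (CommRingCat.of K) ⟶ T) (h : ∀ p, t p ∈ Set.range c) :
    ∃ τ : Spec (CommRingCat.of K) ⟶ Z, τ ≫ c = t := by
  haveI : Surjective (pullback.snd c t) := ⟨fun p => by
    obtain ⟨z, hz⟩ := h p
    obtain ⟨w, -, hw⟩ := Scheme.Pullback.exists_preimage_pullback (f := c) (g := t) z p hz
    exact ⟨w, hw⟩⟩
  haveI : IsClosedImmersion (pullback.snd c t) := inferInstance
  haveI : IsIso (pullback.snd c t) := isIso_of_isClosedImmersion_of_surjective _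
  exact ⟨inv (pullback.snd c t) ≫ pullback.fst c t, by
    rw [Category.assoc, pullback.condition, IsIso.inv_hom_id_assoc]⟩

variable {k : Type u} [Field k] {X : Scheme.{u}} [X.Over (Spec (CommRingCat.of k))]

theorem isClosedImmersion_kPoint {T : Scheme.{u}} (q : T ⟶ Spec (CommRingCat.of k))
    (t : Spec (CommRingCat.of k) ⟶ T) (ht : t ≫ q = 𝟙 _) : IsClosedImmersion t := by
  haveI : IsImmersion (t ≫ q) := by rw [ht]; infer_instance
  haveI : IsImmersion t := IsImmersion.of_comp t q
  exact IsClosedImmersion.of_isPreimmersion t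
    (Groth.Agent.GitGeomQuot.isClosed_range_of_section t q ht)

/-- The slice at a point is the fibre over the point. -/
theorem isPullback_sliceAt {T : Scheme.{u}} (q : T ⟶ Spec (CommRingCat.of k))
    (t : Spec (CommRingCat.of k) ⟶ T) (ht : t ≫ q = 𝟙 _) :
    IsPullback (Pic13.sliceAt k X q t ht) (X ↘ Spec (CommRingCat.of k))
      (pullback.snd (X ↘ Spec (CommRingCat.of k)) q) t := by
  refine IsPullback.of_right ?_ (pullback.lift_snd _ _ _)
    (IsPullback.of_hasPullback (X ↘ Spec (CommRingCat.of k)) q)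
  rw [show Pic13.sliceAt k X q t ht ≫ pullback.fst (X ↘ Spec (CommRingCat.of k)) q = 𝟙 X from
    pullback.lift_fst _ _ _, ht]
  exact IsPullback.of_horiz_isIso ⟨by simp⟩

/-- Two points of an irreducible closed subset of an open piece of a stratum. -/
theorem exists_connected_family {T W : Scheme.{u}} (q : T ⟶ Spec (CommRingCat.of k))
    [LocallyOfFiniteType q] (F : (Pic13.prodK k X q).Modules) (φ : W ⟶ T) [LocallyOfFiniteType φ]
    (V : W.Opens) [CompactSpace (V : Scheme.{u})]
    (hV : ∀ y, pullback.snd (pullback.snd (X ↘ Spec (CommRingCat.of k)) q) φ y ∈ V →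
      y ∈ genLocus ((Scheme.Modules.pullback
        (pullback.fst (pullback.snd (X ↘ Spec (CommRingCat.of k)) q) φ)).obj F))
    {C : Set (V : Scheme.{u})} (hC : C ∈ irreducibleComponents (V : Scheme.{u}))
    (a a' : Spec (CommRingCat.of k) ⟶ (V : Scheme.{u}))
    (s₁ s' : Spec (CommRingCat.of k) ⟶ T) (hs₁ : s₁ ≫ q = 𝟙 _) (hs' : s' ≫ q = 𝟙 _)
    (ha : a ≫ V.ι ≫ φ = s₁) (ha' : a' ≫ V.ι ≫ φ = s')
    (haC : ∀ p, a p ∈ C) (haC' : ∀ p, a' p ∈ C) :
    ∃ (S : Scheme.{u}) (p : S ⟶ Spec (CommRingCat.of k)), ConnectedSpace S ∧ LocallyOfFiniteType p ∧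
        QuasiCompact p ∧ ∃ M : (Pic13.prodK k X p).Modules, PicF.IsInvertible M ∧
          ∃ (τ τ' : Spec (CommRingCat.of k) ⟶ S) (hτ : τ ≫ p = 𝟙 _) (hτ' : τ' ≫ p = 𝟙 _),
            Nonempty (Pic13.fibreMod k X p τ hτ M ≅ Pic13.fibreMod k X q s₁ hs₁ F) ∧
            Nonempty (Pic13.fibreMod k X p τ' hτ' M ≅ Pic13.fibreMod k X q s' hs' F) := by
  let f : Pic13.prodK k X q ⟶ T := pullback.snd (X ↘ Spec (CommRingCat.of k)) q
  let K : Closeds (V : Scheme.{u}) := ⟨C, isClosed_of_mem_irreducibleComponents C hC⟩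
  let J := Scheme.IdealSheafData.vanishingIdeal (X := (V : Scheme.{u})) K
  let S := J.subscheme
  have hrange : Set.range J.subschemeι = C :=
    Groth.PropsBasic2.range_vanishingIdeal_subschemeι K
  obtain ⟨b, hb⟩ := exists_lift_kPoint J.subschemeι a fun p => hrange.symm ▸ haC p
  obtain ⟨b', hb'⟩ := exists_lift_kPoint J.subschemeι a' fun p => hrange.symm ▸ haC' p
  let ψ : S ⟶ T := J.subschemeι ≫ V.ι ≫ φ
  have hbψ : b ≫ ψ = s₁ := by rw [← ha, ← hb, Category.assoc]
  have hbψ' : b' ≫ ψ = s' := by rw [← ha', ← hb', Category.assoc]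
  haveI : ConnectedSpace S := by
    let h := J.subschemeι.isClosedEmbedding.isEmbedding.toHomeomorph
    haveI : PreirreducibleSpace (Set.range J.subschemeι) := by
      rw [hrange]; exact Subtype.preirreducibleSpace hC.1.2
    haveI : PreirreducibleSpace S := ⟨by
      simpa [h.symm.surjective.range_eq] using
        ((PreirreducibleSpace.isPreirreducible_univ (X := Set.range J.subschemeι)).image h.symm h.symm.continuous.continuousOn)⟩
    haveI : IrreducibleSpace S := { toNonempty := ⟨b (IsLocalRing.closedPoint k)⟩ }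
    infer_instance
  haveI : CompactSpace S := J.subschemeι.isClosedEmbedding.compactSpace
  let g : Pic13.prodK k X (ψ ≫ q) ⟶ pullback f φ :=
    pullback.lift (pullback.lift (pullback.fst _ _) (pullback.snd _ _ ≫ ψ) (by
      rw [Category.assoc]; exact pullback.condition)) (pullback.snd _ _ ≫ J.subschemeι ≫ V.ι) (by
      simp only [f, ψ, pullback.lift_snd, Category.assoc])
  have hM : PicF.IsInvertible ((Scheme.Modules.pullback g).obj ((Scheme.Modules.pullback (pullback.fst f φ)).obj F)) := by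
    refine isInvertible_pullback_genLocus g ((Scheme.Modules.pullback (pullback.fst f φ)).obj F) fun y => by_contra fun hy => ?_
    have h1 : pullback.snd f φ (g y) ∈ V := by
      rw [← Scheme.Hom.comp_apply, show g ≫ pullback.snd f φ = pullback.snd _ _ ≫ J.subschemeι ≫ V.ι from
        pullback.lift_snd _ _ _, Scheme.Hom.comp_apply, Scheme.Hom.comp_apply]
      exact (J.subschemeι (pullback.snd (X ↘ Spec (CommRingCat.of k)) (ψ ≫ q) y)).2
    exact hy (hV (g y) h1)
  have hfib : ∀ (c : Spec (CommRingCat.of k) ⟶ S) (hc : c ≫ ψ ≫ q = 𝟙 _)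
      (s : Spec (CommRingCat.of k) ⟶ T) (hs : s ≫ q = 𝟙 _), c ≫ ψ = s →
      Nonempty (Pic13.fibreMod k X (ψ ≫ q) c hc ((Scheme.Modules.pullback g).obj ((Scheme.Modules.pullback (pullback.fst f φ)).obj F)) ≅
        Pic13.fibreMod k X q s hs F) := by
    intro c hc s hs hcs
    have e : Pic13.sliceAt k X (ψ ≫ q) c hc ≫ g ≫ pullback.fst f (φ) =
        Pic13.sliceAt k X q s hs := by
      apply pullback.hom_ext
      · simp only [g, Pic13.sliceAt, Category.assoc, pullback.lift_fst, pullback.lift_fst_assoc]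
      · simp only [g, f, Pic13.sliceAt, Category.assoc, pullback.lift_fst, pullback.lift_fst_assoc,
          pullback.lift_snd, pullback.lift_snd_assoc, hcs]
    exact ⟨(Scheme.Modules.pullback _).mapIso ((Scheme.Modules.pullbackComp g _).app F) ≪≫
      (Scheme.Modules.pullbackComp _ _).app F ≪≫ (Scheme.Modules.pullbackCongr e).app F⟩
  have hbq : b ≫ ψ ≫ q = 𝟙 _ := by rw [← Category.assoc, hbψ, hs₁]
  have hbq' : b' ≫ ψ ≫ q = 𝟙 _ := by rw [← Category.assoc, hbψ', hs']
  exact ⟨S, ψ ≫ q, inferInstance, inferInstance,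
    (quasiCompact_iff_compactSpace (f := ψ ≫ q)).2 inferInstance, _, hM, b, b', hbq, hbq',
    hfib b hbq _ _ hbψ, hfib b' hbq' _ _ hbψ'⟩


section Proper

variable [IsProper (X ↘ Spec (CommRingCat.of k))]

/-- The invertible fibres of a bounded family fall into finitely many connected invertible families. -/
theorem exists_pieces {T : Scheme.{u}} (q : T ⟶ Spec (CommRingCat.of k)) [LocallyOfFiniteType q]
    [QuasiCompact q] (F : (Pic13.prodK k X q).Modules) (hF : Coh.IsCoh F) {N : Type}
    (t : N → (Spec (CommRingCat.of k) ⟶ T)) (ht : ∀ n, t n ≫ q = 𝟙 _)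
    (hinv : ∀ n, PicF.IsInvertible (Pic13.fibreMod k X q (t n) (ht n) F)) :
    ∃ (ι : Type u) (_ : Finite ι) (c : N → ι), ∀ n n', c n = c n' →
      ∃ (S : Scheme.{u}) (p : S ⟶ Spec (CommRingCat.of k)), ConnectedSpace S ∧ LocallyOfFiniteType p ∧
        QuasiCompact p ∧ ∃ M : (Pic13.prodK k X p).Modules, PicF.IsInvertible M ∧
          ∃ (τ τ' : Spec (CommRingCat.of k) ⟶ S) (hτ : τ ≫ p = 𝟙 _) (hτ' : τ' ≫ p = 𝟙 _),
            Nonempty (Pic13.fibreMod k X p τ hτ M ≅ Pic13.fibreMod k X q (t n) (ht n) F) ∧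
            Nonempty (Pic13.fibreMod k X p τ' hτ' M ≅ Pic13.fibreMod k X q (t n') (ht n') F) := by
  classical
  let pX := X ↘ Spec (CommRingCat.of k)
  haveI : IsLocallyNoetherian T := LocallyOfFiniteType.isLocallyNoetherian q
  haveI : CompactSpace T := QuasiCompact.compactSpace_of_compactSpace q
  haveI : IsNoetherian T := {}
  let f : Pic13.prodK k X q ⟶ T := pullback.snd pX q
  haveI : IsProper f := inferInstanceAs (IsProper (pullback.snd pX q))
  haveI : IsLocallyNoetherian (Pic13.prodK k X q) := LocallyOfFiniteType.isLocallyNoetherian f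
  haveI : LocallyOfFinitePresentation f := inferInstance
  have hFp : CohB1.IsFP F := by
    haveI := hF.1
    refine Groth.LocFree.isFP_of_affine_cover F fun x => ?_
    obtain ⟨U, hU, hx, -⟩ := exists_isAffineOpen_mem_and_subset (x := x) (Opens.mem_top x)
    haveI := IsLocallyNoetherian.component_noetherian (X := Pic13.prodK k X q) ⟨U, hU⟩
    haveI := Groth.QCohMod.finite_sections F hF.2 hU
    exact ⟨U, hU, hx, Module.finitePresentation_of_finite _ _⟩
  obtain ⟨r, I, -, hlast, hzero, -, hflat⟩ := Groth.Agent.S1455.result f F hF.1 hFp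
  let O : ∀ i : Fin r, ((I i.castSucc).subscheme).Opens := fun i =>
    (I i.castSucc).subschemeι ⁻¹ᵁ (I i.succ).support.compl
  let W : Fin r → Scheme.{u} := fun i => O i
  let φ : ∀ i, W i ⟶ T := fun i => (O i).ι ≫ (I i.castSucc).subschemeι
  -- every point lifts to a stratum
  let pt : N → T := fun n => t n (IsLocalRing.closedPoint k)
  have hst : ∀ n, ∃ (i : Fin r) (τ : Spec (CommRingCat.of k) ⟶ W i), τ ≫ φ i = t n := by
    intro n
    have h0 : pt n ∈ ((I 0).support : Set T) := by rw [hzero]; trivial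
    have hl : pt n ∉ ((I (Fin.last r)).support : Set T) := by rw [hlast]; simp
    obtain ⟨i, hi, hi'⟩ : ∃ i : Fin r, pt n ∈ ((I i.castSucc).support : Set T) ∧
        pt n ∉ ((I i.succ).support : Set T) := by
      by_contra hne
      exact hl (Fin.induction (motive := fun j => pt n ∈ ((I j).support : Set T)) h0
        (fun j hj => by_contra fun hj' => hne ⟨j, hj, hj'⟩) (Fin.last r))
    obtain ⟨τ₀, hτ₀⟩ := exists_lift_kPoint (I i.castSucc).subschemeι (t n) fun p => by
      rw [Scheme.IdealSheafData.range_subschemeι, Subsingleton.elim p (IsLocalRing.closedPoint k)]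
      exact hi
    have hr : Set.range τ₀ ⊆ Set.range (O i).ι := by
      rintro _ ⟨p, rfl⟩
      rw [Scheme.Opens.range_ι]
      change (I i.castSucc).subschemeι (τ₀ p) ∈ ((I i.succ).support.compl : T.Opens)
      rw [← Scheme.Hom.comp_apply, hτ₀, Subsingleton.elim p (IsLocalRing.closedPoint k)]
      exact hi'
    exact ⟨i, IsOpenImmersion.lift (O i).ι τ₀ hr, by
      simp only [φ, IsOpenImmersion.lift_fac_assoc, hτ₀]⟩
  choose st τ hτ using hst
  let Y : Fin r → Scheme.{u} := fun i => pullback f (φ i)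
  let G : ∀ i, (Y i).Modules := fun i => (Scheme.Modules.pullback (pullback.fst f (φ i))).obj F
  haveI hYn : ∀ i, IsLocallyNoetherian (Y i) := fun i =>
    LocallyOfFiniteType.isLocallyNoetherian (pullback.fst f (φ i))
  have hG : ∀ i, Coh.IsCoh (G i) := fun i => Groth.FlatStrata.isCoh_pullback _ hF
  -- the open part of a stratum over which the family is invertible
  let p' : ∀ i, Y i ⟶ W i := fun i => pullback.snd f (φ i)
  haveI : ∀ i, IsProper (p' i) := fun i => inferInstanceAs (IsProper (pullback.snd f (φ i)))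
  let V : ∀ i, (W i).Opens := fun i =>
    ⟨(p' i '' (genLocus (G i) : Set (Y i))ᶜ)ᶜ,
      ((p' i).isClosedMap _ (genLocus (G i)).2.isClosed_compl).isOpen_compl⟩
  have hτV : ∀ n, τ n (IsLocalRing.closedPoint k) ∈ V (st n) := by
    rintro n ⟨y, hy, hyn⟩
    apply hy
    let σ : X ⟶ Y (st n) := pullback.lift (Pic13.sliceAt k X q (t n) (ht n)) (pX ≫ τ n) (by
      rw [Category.assoc, hτ]
      exact pullback.lift_snd _ _ _)
    have sq : IsPullback σ pX (p' (st n)) (τ n) := by
      refine IsPullback.of_right ?_ (pullback.lift_snd _ _ _) (IsPullback.of_hasPullback f (φ (st n)))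
      rw [show σ ≫ pullback.fst f (φ (st n)) = Pic13.sliceAt k X q (t n) (ht n) from
        pullback.lift_fst _ _ _, hτ]
      exact isPullback_sliceAt q (t n) (ht n)
    have hsec : τ n ≫ (φ (st n) ≫ q) = 𝟙 _ := by rw [← Category.assoc, hτ, ht]
    haveI := isClosedImmersion_kPoint _ (τ n) hsec
    obtain ⟨w, hw, -⟩ := Scheme.Pullback.exists_preimage_pullback (f := p' (st n)) (g := τ n) y
      (IsLocalRing.closedPoint k) hyn
    have hwσ : σ (sq.isoPullback.inv w) = y := by
      rw [← Scheme.Hom.comp_apply, sq.isoPullback_inv_fst, hw]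
    rw [← hwσ]
    refine mem_genLocus_of_fibre (p' (st n)) (τ n) σ pX sq (G (st n)) (hG _) ?_ _ (hflat (st n) _)
    exact PicAux.isInvertible_of_iso (hinv n) ((Scheme.Modules.pullbackComp σ _).app F ≪≫
      (Scheme.Modules.pullbackCongr (pullback.lift_fst _ _ _)).app F).symm
  haveI hWn : ∀ i, IsLocallyNoetherian (W i) := fun i => LocallyOfFiniteType.isLocallyNoetherian (φ i)
  haveI hWt : ∀ i, NoetherianSpace (W i) := fun i => by
    haveI : CompactSpace (I i.castSucc).subscheme :=
      (I i.castSucc).subschemeι.isClosedEmbedding.compactSpace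
    haveI : IsLocallyNoetherian (I i.castSucc).subscheme :=
      LocallyOfFiniteType.isLocallyNoetherian (I i.castSucc).subschemeι
    haveI : IsNoetherian (I i.castSucc).subscheme := {}
    exact (O i).ι.isOpenEmbedding.isInducing.noetherianSpace
  haveI hWc : ∀ i, IsNoetherian (W i) := fun i => {}
  haveI : ∀ i, NoetherianSpace (V i : Scheme.{u}) := fun i => (V i).ι.isOpenEmbedding.isInducing.noetherianSpace
  let ι := Σ i : Fin r, ↥(irreducibleComponents (V i : Scheme.{u}))
  haveI : ∀ i, Finite ↥(irreducibleComponents (V i : Scheme.{u})) := fun i =>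
    (TopologicalSpace.NoetherianSpace.finite_irreducibleComponents (α := (V i : Scheme.{u}))).to_subtype
  refine ⟨ULift.{u} ι, inferInstance, fun n => ⟨⟨st n, irreducibleComponent
    (⟨τ n (IsLocalRing.closedPoint k), hτV n⟩ : (V (st n) : Scheme.{u})),
      irreducibleComponent_mem_irreducibleComponents _⟩⟩, fun n n' hnn' => ?_⟩
  replace hnn' := congrArg ULift.down hnn'
  -- both points lie in one irreducible component `C` of one open piece
  obtain ⟨i, C, hC, a, a', ha, ha', haC, haC'⟩ : ∃ (i : Fin r) (C : Set (V i : Scheme.{u})),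
      C ∈ irreducibleComponents (V i : Scheme.{u}) ∧ ∃ (a a' : Spec (CommRingCat.of k) ⟶ (V i : Scheme.{u})),
        a ≫ (V i).ι ≫ φ i = t n ∧ a' ≫ (V i).ι ≫ φ i = t n' ∧
          (∀ p, a p ∈ C) ∧ ∀ p, a' p ∈ C := by
    let lift : ∀ m, Spec (CommRingCat.of k) ⟶ (V (st m) : Scheme.{u}) := fun m =>
      IsOpenImmersion.lift (V (st m)).ι (τ m) (by
        rintro _ ⟨p, rfl⟩
        rw [Scheme.Opens.range_ι, Subsingleton.elim p (IsLocalRing.closedPoint k)]
        exact hτV m)
    have hlift : ∀ m, lift m ≫ (V (st m)).ι ≫ φ (st m) = t m := fun m => by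
      rw [← Category.assoc, IsOpenImmersion.lift_fac, hτ]
    have hmem : ∀ m p, lift m p ∈ irreducibleComponent
        (⟨τ m (IsLocalRing.closedPoint k), hτV m⟩ : (V (st m) : Scheme.{u})) := fun m p => by
      have e : lift m p = (⟨τ m (IsLocalRing.closedPoint k), hτV m⟩ : (V (st m) : Scheme.{u})) := Subtype.ext (by
        show (V (st m)).ι (lift m p) = _
        rw [← Scheme.Hom.comp_apply, IsOpenImmersion.lift_fac,
          Subsingleton.elim p (IsLocalRing.closedPoint k)])
      rw [e]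
      exact mem_irreducibleComponent
    -- transport along the equality of the indices
    have key : ∀ (j : ι) (m : N), (⟨st m, irreducibleComponent
        (⟨τ m (IsLocalRing.closedPoint k), hτV m⟩ : (V (st m) : Scheme.{u})),
        irreducibleComponent_mem_irreducibleComponents _⟩ : ι) = j →
        ∃ b : Spec (CommRingCat.of k) ⟶ (V j.1 : Scheme.{u}),
          b ≫ (V j.1).ι ≫ φ j.1 = t m ∧ ∀ p, b p ∈ j.2.1 := by
      rintro j m rfl
      exact ⟨lift m, hlift m, hmem m⟩
    obtain ⟨b, hb, hbC⟩ := key _ n rfl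
    obtain ⟨b', hb', hbC'⟩ := key _ n' hnn'.symm
    exact ⟨_, _, irreducibleComponent_mem_irreducibleComponents _, b, b', hb, hb', hbC, hbC'⟩
  haveI : CompactSpace (V i : Scheme.{u}) := NoetherianSpace.compactSpace _
  exact exists_connected_family q F (φ i) (V i) (fun y hy => by_contra fun hy' => hy ⟨y, hy', rfl⟩) hC
    a a' _ _ (ht n) (ht n') ha ha' haC haC'

/-- An invertible module with a bounded set of powers is τ-equivalent to zero. -/
theorem isTauEquivZero_of_isBounded_powers {L : X.Modules} (hL : PicF.IsInvertible L)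
    {P : X.Modules → Prop} (hb : Pic13.IsBounded k X P) (hP : ∀ m : ℕ, P (CohB1.tensorPow L m)) :
    Pic13.IsTauEquivZero k X L := by
  obtain ⟨T, q, hlft, hqc, F, hF, hFP⟩ := hb
  choose t ht e using fun m => hFP _ (hP m)
  obtain ⟨ι, hι, c, hc⟩ := exists_pieces q F hF t ht fun m =>
    PicAux.isInvertible_of_iso (PicAux.isInvertible_tensorPow hL m) (e m).some.symm
  obtain ⟨a, b, hab, hcab⟩ : ∃ a b, a < b ∧ c a = c b := by
    obtain ⟨a, b, hne, hab⟩ := Finite.exists_ne_map_eq_of_infinite c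
    rcases lt_or_gt_of_ne hne with h | h
    exacts [⟨a, b, h, hab⟩, ⟨b, a, h, hab.symm⟩]
  obtain ⟨S, p, hconn, hlft', hqc', M, hM, τ, τ', hτ, hτ', ⟨e₁⟩, ⟨e₂⟩⟩ := hc a b hcab
  obtain ⟨L', hL', hLL'⟩ := exists_isInverseOf hL
  refine ⟨b - a, by omega, S, p, hconn, hlft', hqc',
    CohB1.tensorMod M ((Scheme.Modules.pullback (pullback.fst (X ↘ Spec (CommRingCat.of k)) p)).obj
      (CohB1.tensorPow L' a)),
    PicAux.isInvertible_tensorMod hM (PicAux.isInvertible_pullback _ (PicAux.isInvertible_tensorPow hL' a)),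
    τ', τ, hτ', hτ, ?_, ?_⟩
  all_goals have hfst : ∀ (σ : Spec (CommRingCat.of k) ⟶ S) (hσ : σ ≫ p = 𝟙 _),
      Nonempty (Pic13.fibreMod k X p σ hσ (CohB1.tensorMod M
        ((Scheme.Modules.pullback (pullback.fst (X ↘ Spec (CommRingCat.of k)) p)).obj (CohB1.tensorPow L' a))) ≅
        CohB1.tensorMod (Pic13.fibreMod k X p σ hσ M) (CohB1.tensorPow L' a)) := fun σ hσ =>
    ⟨(PicAux.exists_pullback_tensorMod _ _ _).choose ≪≫ (Inter.tensor_congr ⟨Iso.refl _⟩
      ⟨(Scheme.Modules.pullbackComp _ _).app _ ≪≫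
        (Scheme.Modules.pullbackCongr (pullback.lift_fst _ _ _)).app _ ≪≫
        (Scheme.Modules.pullbackId X).app _⟩).some⟩
  · refine ⟨(hfst τ' hτ').some ≪≫ (Inter.tensor_congr ⟨e₂ ≪≫ (e b).some ≪≫
      eqToIso (congrArg (CohB1.tensorPow L) (show b = (b - a) + a by omega)) ≪≫
      (PicAux.tensorPow_add L (b - a) a).some⟩ ⟨Iso.refl _⟩).some ≪≫
      (Inter.tensor_assoc _ _ _).some ≪≫
      (Inter.tensor_congr ⟨Iso.refl _⟩ (PicAux.isInverseOf_tensorPow hLL' a)).some ≪≫
      (Inter.tensor_comm _ _).some ≪≫ (Inter.tensor_one _).some⟩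
  · exact ⟨(hfst τ hτ).some ≪≫ (Inter.tensor_congr ⟨e₁ ≪≫ (e a).some⟩ ⟨Iso.refl _⟩).some ≪≫
      (PicAux.isInverseOf_tensorPow hLL' a).some⟩

end Proper

end Groth.Pic13Aux
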