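import Groth.Agent.Calg5.FibrewiseInvertible
import Groth.Agent.Cycles.FlatFam
import Groth.Agent.LocFree.Rank
import Groth.Agent.QCohMod.SupportPullback
import Groth.Agent.Inter.Twist

/-!
# A flat module with invertible restriction to a fibre is invertible near the fibre
-/

set_option autoImplicit false
set_option linter.style.haveILetI false

universe u

open CategoryTheory CategoryTheory.Limits AlgebraicGeometry TopologicalSpace IsLocalRing
open scoped TensorProduct

namespace Groth.Pic13Aux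

open Groth.PicAux

variable {Y : Scheme.{u}}

theorem gen_of_basis' {M : Y.Modules} {U : Y.Opens} {s : Fin 1 → Γ(M, U)} (hs : Basis' M U s) :
    Gen M U (s 0) := by
  intro V h
  have e : (fun r : Γ(Y, V) => r • res M h (s 0)) =
      (fun r : Fin 1 → Γ(Y, V) => ∑ i, r i • res M h (s i)) ∘ (Equiv.funUnique (Fin 1) Γ(Y, V)).symm := by
    funext r
    simp
  rw [e]
  exact (hs V h).comp (Equiv.bijective _)

/-- The points near which a module is free of rank one form an open set. -/
def genLocus (M : Y.Modules) : Y.Opens :=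
  ⟨{y | ∃ (U : Y.Opens) (e : Γ(M, U)), y ∈ U ∧ Gen M U e},
    isOpen_iff_forall_mem_open.2 fun _ ⟨U, e, hy, he⟩ => ⟨U, fun _ hz => ⟨U, e, hz, he⟩, U.2, hy⟩⟩

theorem isInvertible_pullback_genLocus {Z : Scheme.{u}} (g : Z ⟶ Y) (M : Y.Modules)
    (hg : ∀ z, g z ∈ genLocus M) : PicF.IsInvertible ((Scheme.Modules.pullback g).obj M) := by
  refine (isInvertible_iff_exists_gen _).2 fun z => ?_
  obtain ⟨U, e, hz, he⟩ := hg z
  exact ⟨g ⁻¹ᵁ U, _, hz, he.pull g⟩

/-- The criterion. -/
theorem mem_genLocus_of_fibre [IsLocallyNoetherian Y] {T W Z : Scheme.{u}} (f : Y ⟶ T) (j : W ⟶ T)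
    [IsClosedImmersion j] (i : Z ⟶ Y) (p : Z ⟶ W) (sq : IsPullback i p f j) (F : Y.Modules)
    (hF : Coh.IsCoh F) (hinv : PicF.IsInvertible ((Scheme.Modules.pullback i).obj F)) (z : Z)
    (hflat : FlatMod.IsFlatOverAt f F (i z)) : i z ∈ genLocus F := by
  haveI := hF.1
  let x := i z
  haveI : IsClosedImmersion i := MorphismProperty.of_isPullback sq.flip inferInstance
  let R := T.presheaf.stalk (f x)
  let S := Y.presheaf.stalk x
  let OZ := Z.presheaf.stalk z
  let N := F.presheaf.stalk x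
  letI : Algebra R S := (f.stalkMap x).hom.toAlgebra
  haveI : IsLocalHom (algebraMap R S) := inferInstanceAs (IsLocalHom (f.stalkMap x).hom)
  letI : Module R N := FlatMod.moduleStalkOver f F x
  haveI : IsScalarTower R S N := IsScalarTower.of_algebraMap_smul fun _ _ => rfl
  haveI : Module.Flat R N := hflat
  haveI : Module.Finite S N := Groth.QCohMod.finite_stalk F hF.2 x
  let J : Ideal S := (maximalIdeal R).map (algebraMap R S)
  let Q := S ⧸ J
  have hsurj : Function.Surjective (i.stalkMap z).hom := i.stalkMap_surjective z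
  have hK : RingHom.ker (i.stalkMap z).hom ≤ RingHom.ker (Ideal.Quotient.mk J) := by
    rw [Ideal.mk_ker]
    have h1 := Groth.Cycles.ker_stalkMap_fst_le f j (sq.isoPullback.hom z)
    have aux : ∀ (g g' : Z ⟶ Y), g = g' →
        RingHom.ker (g.stalkMap z).hom ≤ Groth.CycleLimits.fibreIdeal f (g z) →
        RingHom.ker (g'.stalkMap z).hom ≤ Groth.CycleLimits.fibreIdeal f (g' z) := by
      rintro g g' rfl h; exact h
    refine aux (sq.isoPullback.hom ≫ pullback.fst f j) i sq.isoPullback_hom_fst ?_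
    intro a ha
    refine h1 ?_
    rw [RingHom.mem_ker, Scheme.Hom.stalkMap_comp] at ha
    exact ((ConcreteCategory.isIso_iff_bijective (sq.isoPullback.hom.stalkMap z)).mp inferInstance).1
      (ha.trans (map_zero _).symm)
  letI : Algebra S OZ := Groth.QCohMod.stalkAlg i z
  let ψ : OZ →+* Q := RingHom.liftOfSurjective (i.stalkMap z).hom hsurj ⟨Ideal.Quotient.mk J, hK⟩
  letI : Algebra OZ Q := ψ.toAlgebra
  haveI : IsScalarTower S OZ Q := IsScalarTower.of_algebraMap_eq fun a =>
    (RingHom.liftOfRightInverse_comp_apply _ _ _ ⟨Ideal.Quotient.mk J, hK⟩ a).symm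
  let e₁ : (OZ ⊗[S] N) ≃ₗ[OZ] OZ :=
    Groth.QCohMod.pullStalkEquiv i F z ≪≫ₗ (Groth.Inter.exists_stalk_equiv hinv z).some.symm
  let e₂ : (Q ⊗[S] N) ≃ₗ[Q] Q :=
    (TensorProduct.AlgebraTensorModule.cancelBaseChange S OZ Q Q N).symm ≪≫ₗ
      TensorProduct.AlgebraTensorModule.congr (LinearEquiv.refl Q Q) e₁ ≪≫ₗ
      TensorProduct.AlgebraTensorModule.rid OZ Q Q
  haveI : Module.Invertible (S ⧸ (maximalIdeal R).map (algebraMap R S))
      ((S ⧸ (maximalIdeal R).map (algebraMap R S)) ⊗[S] N) := Module.Invertible.congr e₂.symm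
  obtain ⟨e⟩ := Groth.Calg5.FibrewiseInvertible.exists_equiv_of_local R (S := S) (N := N)
  haveI : Module.Free S N := Module.Free.of_equiv e.symm
  obtain ⟨U, hU, hxU, -⟩ := exists_isAffineOpen_mem_and_subset (x := x) (Opens.mem_top x)
  haveI : IsNoetherianRing Γ(Y, U) := IsLocallyNoetherian.component_noetherian ⟨U, hU⟩
  haveI := Groth.QCohMod.finite_sections F hF.2 hU
  haveI : Module.FinitePresentation Γ(Y, U) Γ(F, U) := Module.finitePresentation_of_finite _ _
  obtain ⟨g, n, m, hxg, -, hb⟩ := Groth.LocFree.exists_basis_of_free_stalk (M := F) hU hxU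
  obtain rfl : n = 1 := (Groth.LocFree.finrank_stalk_of_basis hb hxg).symm.trans
    (e.finrank_eq.trans (Module.finrank_self S))
  exact ⟨_, _, hxg, gen_of_basis' hb⟩

end Groth.Pic13Aux
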