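import Groth.Agent.Ega2Proj.TwistGen
import Groth.Agent.RelTwist.BaseFun
import Groth.Agent.PropsBasic.AmpleSec
import Groth.Agent.EulerDeg.FiniteSupport
import Groth.Agent.Variety2.Reg.Pn
import Groth.Agent.Variety2.ProjPoints

/-!
# Linear forms as sections of `O(1)` on projective space
-/

set_option autoImplicit false
set_option linter.style.haveILetI false
set_option backward.isDefEq.respectTransparency.types false

universe u

open CategoryTheory AlgebraicGeometry TopologicalSpace Opposite

namespace Groth.Pic13Aux.PnForms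

open Groth.PicAux Groth.Ega2Proj Groth.PropsBasic.Ample

attribute [local instance] Groth.EulerDeg.secModule

variable {k : Type u} [Field k] {N : ℕ}

/-- The value of a constant at a point. -/
theorem val_toSec (c : k) (x : ProjectiveSpectrum (CohB1.polyGrading N k)) :
    (((EulerDeg.toSec k (X := CohB1.ProjSpace N k) ⊤) c).1 ⟨x, trivial⟩).val =
      algebraMap (MvPolynomial (Fin (N + 1)) k) (Twist.Loc (CohB1.polyGrading N k) x)
        (MvPolynomial.C c) := by
  have h1 : (EulerDeg.toSec k (X := CohB1.ProjSpace N k) ⊤) c =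
      Coh.toGlobal (CohB1.ProjSpace.toSpec N k) c := by
    change resX (CohB1.ProjSpace N k) (le_top : (⊤ : (CohB1.ProjSpace N k).Opens) ≤ ⊤) _ = _
    rw [resX_self]
    rfl
  have h2 : Coh.toGlobal (CohB1.ProjSpace.toSpec N k) c =
      (((Scheme.ΓSpecIso (CommRingCat.of (CohB1.polyGrading N k 0))).inv ≫
        (Proj.toSpecZero (CohB1.polyGrading N k)).appTop).hom
          (algebraMap k (CohB1.polyGrading N k 0) c)) := by
    have h3 := congr(($(Scheme.ΓSpecIso_inv_naturality
      (CommRingCat.ofHom (algebraMap k (CohB1.polyGrading N k 0))))).hom c)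
    simp only [Coh.toGlobal, CohB1.ProjSpace.toSpec, Scheme.Hom.comp_appTop]
    exact (congrArg (Proj.toSpecZero (CohB1.polyGrading N k)).appTop.hom h3).symm
  rw [h1, h2, ← Localization.mk_one_eq_algebraMap]
  exact RelTw.toSpecZero_appTop_val (CohB1.polyGrading N k) _ x

/-- The global section of `O(1)` given by a linear form. -/
noncomputable def lin :
    (CohB1.polyGrading N k 1) →ₗ[k] Γ(Twist.twistProjSpace N k 1, (⊤ : (CohB1.ProjSpace N k).Opens)) where
  toFun f := oneGlobal (𝒜 := CohB1.polyGrading N k) f.2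
  map_add' f g := by
    refine wval_ext (𝒜 := CohB1.polyGrading N k) fun x hx => ?_
    refine (wval_oneGlobal _ x hx).trans (Eq.trans ?_
      (congrArg₂ (· + ·) (wval_oneGlobal f.2 x hx).symm (wval_oneGlobal g.2 x hx).symm))
    rw [← map_add]
    rfl
  map_smul' c f := by
    refine wval_ext (𝒜 := CohB1.polyGrading N k) fun x hx => ?_
    refine (wval_oneGlobal _ x hx).trans (Eq.trans ?_
      (wval_smul (𝒜 := CohB1.polyGrading N k) _ _ x hx).symm)
    rw [wval_oneGlobal]
    erw [val_toSec c x]
    rw [← map_mul, ← MvPolynomial.smul_eq_C_mul]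
    rfl

/-- A linear form generates `O(1)` exactly off its zero locus. -/
theorem mem_gloc_lin (f : CohB1.polyGrading N k 1) (x : ProjectiveSpectrum (CohB1.polyGrading N k)) :
    x ∈ gloc (lin f) ↔ (f : MvPolynomial (Fin (N + 1)) k) ∉ x.asHomogeneousIdeal := by
  have hS : (HomogeneousIdeal.irrelevant (CohB1.polyGrading N k)).toIdeal ≤
      Ideal.span (CohB1.polyGrading N k 1 : Set (MvPolynomial (Fin (N + 1)) k)) :=
    Variety2.Reg.gen_one N k
  have h := genLocus_powSec_eq (𝒜 := CohB1.polyGrading N k)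
    (S := (CohB1.polyGrading N k 1 : Set (MvPolynomial (Fin (N + 1)) k))) (fun _ h => h) hS f.2
  rw [genLocus_eq_gloc] at h
  rw [gsec, homOfSection_one] at h
  erw [gloc_powSec (Variety2.Reg.isInvertible_tw (n := N) (k := k) 1) _ one_pos] at h
  exact Iff.of_eq (congrArg (fun O : (CohB1.ProjSpace N k).Opens => x ∈ O) h)

/-- The linear forms vanishing at a point. -/
def vanishing (x : ProjectiveSpectrum (CohB1.polyGrading N k)) : Submodule k (CohB1.polyGrading N k 1) where
  carrier := {f | (f : MvPolynomial (Fin (N + 1)) k) ∈ x.asHomogeneousIdeal}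
  add_mem' ha hb := x.asHomogeneousIdeal.toIdeal.add_mem ha hb
  zero_mem' := x.asHomogeneousIdeal.toIdeal.zero_mem
  smul_mem' c a ha := by
    change c • (a : MvPolynomial (Fin (N + 1)) k) ∈ x.asHomogeneousIdeal
    rw [MvPolynomial.smul_eq_C_mul]
    exact x.asHomogeneousIdeal.toIdeal.mul_mem_left _ ha

theorem mem_vanishing {x : ProjectiveSpectrum (CohB1.polyGrading N k)} {f : CohB1.polyGrading N k 1} :
    f ∈ vanishing x ↔ (f : MvPolynomial (Fin (N + 1)) k) ∈ x.asHomogeneousIdeal := Iff.rfl

theorem vanishing_ne_top (x : ProjectiveSpectrum (CohB1.polyGrading N k)) : vanishing x ≠ ⊤ := by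
  obtain ⟨i, hi⟩ := Groth.Variety2.PSpace.exists_X_notMem x
  intro h
  exact hi (mem_vanishing.1 (h.ge (Submodule.mem_top (x :=
    (⟨_, Variety2.Reg.X_mem N k i⟩ : CohB1.polyGrading N k 1)))))

/-- If the forms vanishing at `x` have codimension one then `x` is closed. -/
theorem isClosed_of_codim (x : ProjectiveSpectrum (CohB1.polyGrading N k))
    (l : CohB1.polyGrading N k 1) (h : vanishing x ⊔ k ∙ l = ⊤) :
    IsClosed ({x} : Set (ProjectiveSpectrum (CohB1.polyGrading N k))) := by
  classical
  set S := MvPolynomial (Fin (N + 1)) k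
  have hX : ∀ i, ∃ a : k, (MvPolynomial.X i - a • (l : S) : S) ∈ x.asHomogeneousIdeal := fun i => by
    obtain ⟨w, hw, v, hv, hwv⟩ := Submodule.mem_sup.1 (h.ge (Submodule.mem_top (x :=
      (⟨_, Variety2.Reg.X_mem N k i⟩ : CohB1.polyGrading N k 1))))
    obtain ⟨a, rfl⟩ := Submodule.mem_span_singleton.1 hv
    refine ⟨a, ?_⟩
    have := congrArg (fun p : CohB1.polyGrading N k 1 => (p : S)) hwv
    simp only [Submodule.coe_add, Submodule.coe_smul] at this
    rw [← this, add_sub_cancel_right]
    exact hw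
  choose a ha using hX
  refine closure_subset_iff_isClosed.1 fun y hy => ?_
  have hxy : x ≤ y := (ProjectiveSpectrum.le_iff_mem_closure _ x y).2 hy
  refine (le_antisymm ?_ hxy : y = x)
  -- modulo the prime of `x` every form is a multiple of a power of `l`
  have hcong : ∀ (d : ℕ) (f : S), f.IsHomogeneous d →
      f - MvPolynomial.eval a f • (l : S) ^ d ∈ x.asHomogeneousIdeal.toIdeal := by
    intro d f hf
    let π := Ideal.Quotient.mkₐ k x.asHomogeneousIdeal.toIdeal
    suffices π f = MvPolynomial.eval a f • π (l : S) ^ d by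
      rw [← Ideal.Quotient.eq_zero_iff_mem, ← Ideal.Quotient.mkₐ_eq_mk k, map_sub, map_smul, map_pow]
      exact sub_eq_zero.2 this
    have hπ : ∀ i, π (MvPolynomial.X i) = a i • π (l : S) := fun i => by
      rw [← map_smul, ← sub_eq_zero, ← map_sub]
      exact Ideal.Quotient.eq_zero_iff_mem.2 (ha i)
    conv_lhs => rw [← MvPolynomial.support_sum_monomial_coeff f]
    rw [map_sum, MvPolynomial.eval_eq', Finset.sum_smul]
    refine Finset.sum_congr rfl fun m hm => ?_
    rw [MvPolynomial.monomial_eq, map_mul, Finsupp.prod_fintype _ _ (fun i => pow_zero _), map_prod]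
    simp only [map_pow, hπ, smul_pow]
    rw [show π (MvPolynomial.C (f.coeff m)) = algebraMap k _ (f.coeff m) from π.commutes _,
      ← Algebra.smul_def, Finset.prod_smul, smul_smul, Finset.prod_pow_eq_pow_sum]
    congr 2
    have hw := hf (MvPolynomial.mem_support_iff.1 hm)
    simpa [Finsupp.weight_apply, Finsupp.sum_fintype] using hw
  have hl : (l : S) ∉ y.asHomogeneousIdeal := by
    intro hl
    obtain ⟨i, hi⟩ := Groth.Variety2.PSpace.exists_X_notMem y
    refine hi ?_
    have h1 : (MvPolynomial.X i - a i • (l : S) : S) ∈ y.asHomogeneousIdeal := hxy (ha i)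
    have h2 : (a i • (l : S) : S) ∈ y.asHomogeneousIdeal := by
      rw [MvPolynomial.smul_eq_C_mul]
      exact y.asHomogeneousIdeal.toIdeal.mul_mem_left _ hl
    have := y.asHomogeneousIdeal.toIdeal.add_mem h1 h2
    rwa [sub_add_cancel] at this
  intro f hf
  rw [← HomogeneousIdeal.mem_iff, ← DirectSum.sum_support_decompose (CohB1.polyGrading N k) f]
  refine x.asHomogeneousIdeal.toIdeal.sum_mem fun d _ => ?_
  set g : S := ((DirectSum.decompose (CohB1.polyGrading N k) f d : CohB1.polyGrading N k d) : S)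
  have hg : g ∈ y.asHomogeneousIdeal := y.asHomogeneousIdeal.isHomogeneous d hf
  have hgd : g.IsHomogeneous d := (MvPolynomial.mem_homogeneousSubmodule _ _).1
    (DirectSum.decompose (CohB1.polyGrading N k) f d).2
  have hc := hcong d g hgd
  have h3 : MvPolynomial.eval a g • (l : S) ^ d ∈ y.asHomogeneousIdeal.toIdeal := by
    have := y.asHomogeneousIdeal.toIdeal.sub_mem hg (hxy hc)
    rwa [sub_sub_cancel] at this
  have h0 : MvPolynomial.eval a g = 0 := by
    by_contra hne
    refine hl (y.isPrime.mem_of_pow_mem d ?_)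
    have := y.asHomogeneousIdeal.toIdeal.mul_mem_left (MvPolynomial.C (MvPolynomial.eval a g)⁻¹) h3
    rwa [MvPolynomial.smul_eq_C_mul, ← mul_assoc, ← map_mul, inv_mul_cancel₀ hne, map_one,
      one_mul] at this
  rwa [h0, zero_smul, sub_zero] at hc

variable [Infinite k]

/-- A pencil of linear forms none of whose members vanishes at given nonclosed points. -/
theorem exists_pencil {Z : Set (ProjectiveSpectrum (CohB1.polyGrading N k))} (hZ : Z.Finite)
    (hZc : ∀ x ∈ Z, ¬ IsClosed ({x} : Set (ProjectiveSpectrum (CohB1.polyGrading N k)))) :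
    ∃ f₀ f₁ : CohB1.polyGrading N k 1, ∀ x ∈ Z,
      f₁ ∉ vanishing x ∧ ∀ c : k, f₀ - c • f₁ ∉ vanishing x := by
  have : Finite Z := hZ.to_subtype
  obtain ⟨f₁, hf₁⟩ := Submodule.exists_forall_notMem_of_forall_ne_top
    (fun x : Z => vanishing x.1) (fun x => vanishing_ne_top x.1)
  obtain ⟨f₀, hf₀⟩ := Submodule.exists_forall_notMem_of_forall_ne_top
    (fun x : Z => vanishing x.1 ⊔ k ∙ f₁) (fun x h => hZc _ x.2 (isClosed_of_codim _ f₁ h))
  exact ⟨f₀, f₁, fun x hx => ⟨hf₁ ⟨x, hx⟩, fun c hc => hf₀ ⟨x, hx⟩ (Submodule.mem_sup.2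
    ⟨_, hc, _, Submodule.smul_mem _ c (Submodule.mem_span_singleton_self f₁), sub_add_cancel _ _⟩)⟩⟩

end Groth.Pic13Aux.PnForms
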